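import Cfsg.Statements.S3183
import Cfsg.Agent.H9.Loc1

set_option autoImplicit false
open Cfsg

namespace Cfsg.Agent.S3183

open Subgroup

/-- Let G be a finite group in which the intersection of any two distinct Sylow 2-subgroups is contained in the centre of some Sylow 2-subgroup, and let S be a Sylow 2-subgroup. Then for every x in S the centralizer of x in S is a Sylow 2-subgroup of the centralizer of x in G (no 2-subgroup centralizing x is larger), and for every other Sylow 2-subgroup T the intersection S ∩ T lies in both the centre of S and the centre of T. -/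
theorem result {G : Type*} [Group G] [Finite G]
    (hCI : ∀ S T : Sylow 2 G, S ≠ T → ∃ U : Sylow 2 G,
      (S : Subgroup G) ⊓ (T : Subgroup G) ≤ (Subgroup.center ↥(U : Subgroup G)).map (U : Subgroup G).subtype)
    (S : Sylow 2 G) :
    (∀ x ∈ (S : Subgroup G), ∀ P : Subgroup G, IsPGroup 2 ↥P → P ≤ Subgroup.centralizer ({x} : Set G) →
        Nat.card ↥P ≤ Nat.card ↥((S : Subgroup G) ⊓ Subgroup.centralizer ({x} : Set G))) ∧
    (∀ T : Sylow 2 G, T ≠ S →
        (S : Subgroup G) ⊓ (T : Subgroup G) ≤
          (Subgroup.center ↥(S : Subgroup G)).map (S : Subgroup G).subtype ⊓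
            (Subgroup.center ↥(T : Subgroup G)).map (T : Subgroup G).subtype) := by
  have : Fact (Nat.Prime 2) := ⟨Nat.prime_two⟩
  simp only [H4.map_center_subtype] at hCI ⊢
  have key : ∀ (n : ℕ) (S T : Sylow 2 G), S ≠ T →
      Nat.card G - Nat.card ↥((S : Subgroup G) ⊓ T) = n →
      (S : Subgroup G) ⊓ T ≤ centralizer (S : Subgroup G) := by
    intro n
    induction n using Nat.strong_induction_on with | _ n ih => ?_
    intro S T hST hn
    obtain ⟨U, hU⟩ := hCI S T hST
    set D := (S : Subgroup G) ⊓ T with hD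
    have hlt : D < S := lt_of_le_of_ne inf_le_left fun e =>
      hST (Sylow.ext (S.3 T.isPGroup' (e ▸ inf_le_right)).symm)
    have h1 := H5.lt_inf_normalizer_of_isPGroup S.isPGroup' hlt
    have hUD : (U : Subgroup G) ≤ centralizer (D : Set G) :=
      le_centralizer_iff.1 (hU.trans inf_le_right)
    have hUS : H5.IsSylowOf 2 (U : Subgroup G) (normalizer (D : Set G)) :=
      (H5.isSylowOf_top U).of_le (hUD.trans (centralizer_le_normalizer _)) le_top
    obtain ⟨k, hk, hkU⟩ := hUS.exists_conj_le (Q := (S : Subgroup G) ⊓ normalizer (D : Set G))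
      (S.isPGroup'.to_le inf_le_left) inf_le_right
    obtain ⟨V, hV⟩ := ((H5.isSylowOf_top U).map_conj (g := k⁻¹)
      (by rw [normalizer_eq_top]; trivial)).exists_sylow_top
    have hVD : (V : Subgroup G) ≤ centralizer (D : Set G) := by
      rw [hV, ← H4.mem_normalizer_iff_conjS.1 (inv_mem hk), ← H4.conjS_centralizer]
      exact H4.conjS_mono _ hUD
    have hSV : (S : Subgroup G) ⊓ normalizer (D : Set G) ≤ V := by
      rw [hV, ← H4.conjS_inv_conjS k (_ ⊓ _)]
      exact H4.conjS_mono _ hkU
    by_cases e : S = V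
    · rw [e]; exact le_centralizer_iff.1 hVD
    · have h2 : D < (S : Subgroup G) ⊓ V := h1.trans_le (le_inf inf_le_left hSV)
      refine h2.le.trans (ih _ ?_ S V e rfl)
      have := H5.card_lt_of_lt h2
      have := card_le_card_group ((S : Subgroup G) ⊓ V)
      omega
  refine ⟨?_, fun T hT => le_inf (le_inf inf_le_left (key _ S T hT.symm rfl))
    (le_inf inf_le_right (inf_comm (S : Subgroup G) T ▸ key _ T S hT rfl))⟩
  intro x hx P hP hPx
  obtain ⟨k, hk⟩ := H4.exists_pow_pow_of_mem S.isPGroup' hx
  obtain ⟨T, hT⟩ := (IsPGroup.to_sup_of_normal_right' hP (H9.isPGroup_zpowers hk)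
    (hPx.trans (H9.Cen_le_Nor x))).exists_le_sylow
  by_cases e : S = T
  · subst e
    exact card_le_of_le (le_inf (le_sup_left.trans hT) hPx)
  · have h1 : (S : Subgroup G) ≤ centralizer {x} := fun g hg =>
      H9.mem_Cen.2 (mem_centralizer_iff.1
        (key _ S T e rfl ⟨hx, hT (mem_sup_right (mem_zpowers x))⟩) g hg).symm
    rw [inf_eq_left.2 h1]
    exact (H5.isSylowOf_top S).card_le hP le_top

end Cfsg.Agent.S3183
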