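import Cfsg.Statements.S0655
import Cfsg.Agent.H7.ZJ

set_option autoImplicit false
open Cfsg

namespace Cfsg.Agent.S0655

/-- In a p-group the intersection of all elementary abelian subgroups of largest order is the subgroup generated by the elements of order dividing p in the centre (equivalently the centralizer) of the elementary-version Thompson subgroup. -/
theorem result {S : Type*} [Group S] [Finite S] {p : ℕ} [Fact p.Prime] (hS : IsPGroup p S) : sInf (Cfsg.maxElementaryAbelianSubgroups p S) = Cfsg.omegaCenterThompson p S ∧ Cfsg.omegaCenterThompson p S = Cfsg.omegaOne p (Subgroup.centralizer (Cfsg.thompsonSubgroup p S : Set S)) := by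
  have h1 : sInf (Cfsg.maxElementaryAbelianSubgroups p S) = Cfsg.omegaCenterThompson p S := by
    ext x
    rw [H7.omegaCenterThompson_eq, H7.mem_ZJ, Subgroup.mem_sInf]
    simp only [H6.maxEA_top_iff]
  refine ⟨h1, le_antisymm (H6.omegaOne_mono inf_le_right) ?_⟩
  rw [← h1, omegaOne, Subgroup.closure_le]
  rintro x ⟨hx, hxp⟩
  refine Subgroup.mem_sInf.mpr fun A hA => ?_
  have hA' := H6.maxEA_top_iff.mpr hA
  exact hA'.mem_of_centralizer (Subgroup.mem_top x) hxp (H6.centralizer_anti hA'.le_thompson hx)

end Cfsg.Agent.S0655
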