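import Cfsg.Statements.S1290
import Cfsg.Agent.CK.L

set_option autoImplicit false
open Cfsg

namespace Cfsg.Agent.S1290

/-- Let G be a non-abelian finite simple group, S a Sylow 2-subgroup, and W the subgroup generated by the cores O(C_G(x)) of the involutions x of S. If W has odd order and W ∩ C_G(x) = O(C_G(x)) for each involution x ∈ S, then O(C_G(t)) = 1 for every involution t of G. -/
theorem result {G : Type*} [Group G] [Finite G] [IsSimpleGroup G] (hna : ¬ IsMulCommutative G) (S : Sylow 2 G) (hodd : Odd (Nat.card ↥(⨆ x : {x : G // x ∈ S ∧ orderOf x = 2}, Cfsg.centralizerPPrimeCore 2 (x : G)))) (hfix : ∀ x : G, x ∈ S → orderOf x = 2 → (⨆ y : {y : G // y ∈ S ∧ orderOf y = 2}, Cfsg.centralizerPPrimeCore 2 (y : G)) ⊓ Subgroup.centralizer {x} = Cfsg.centralizerPPrimeCore 2 x) (t : G) (ht : orderOf t = 2) : Cfsg.centralizerPPrimeCore 2 t = ⊥ := by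
  exact CK.thompson hna S rfl hodd hfix ht

end Cfsg.Agent.S1290
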