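import Cfsg.Statements.S1291
import Cfsg.Agent.GC.R

set_option autoImplicit false
open Cfsg

namespace Cfsg.Agent.S1291

/-- Let G be a balanced finite group with O(G) = 1 and 2-rank at least 3, such that the commuting graph of Klein four-subgroups of G, or of a Sylow 2-subgroup of G, is connected. Then O(C_G(t)) = 1 for every involution t. -/
theorem result {G : Type*} [Group G] [Finite G] (hbal : Cfsg.IsBalanced G) (hO : Cfsg.oddCore G = ⊥) (hrank : ¬ Cfsg.PRankLE 2 2 G) (hconn : Cfsg.IsFourConnected G ∨ ∃ S : Sylow 2 G, Cfsg.IsFourConnected ↥(S : Subgroup G)) (t : G) (ht : orderOf t = 2) : Cfsg.centralizerPPrimeCore 2 t = ⊥ := by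
  have hb : H5.Dich.Bal G := fun a b aa bb a1 b1 e =>
    (hbal a b (H4.orderOf_eq_two' aa a1) (H4.orderOf_eq_two' bb b1) e).le.trans inf_le_left
  have i : BS.Inv t := ⟨H4.ne_one_of_orderOf ht, H4.mul_self_eq_one_of_orderOf ht⟩
  have r := H5.Dich.r3_top_iff.mpr hrank
  have h0 := GC.Od_top.trans hO
  rcases hconn with h | ⟨S, h⟩
  · exact GC.conn_top hb h0 r h i
  · have r' := GC.r3_syl r (H5.isSylowOf_top S)
    exact (GC.th_eq t).trans (GC.cor_bal (GC.kUp _) hb (H5.isSylowOf_top S) r' (GC.cn_sub r' h) h0 i)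

end Cfsg.Agent.S1291
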