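import Cfsg.Statements.S1292
import Cfsg.Agent.H4.Asch31

set_option autoImplicit false
open Cfsg

namespace Cfsg.Agent.S1292

/-- Let G be a finite group such that F*(C_G(t)) = O_2(C_G(t)) for every involution t. Then F*(N_G(T)) = O_2(N_G(T)) for every nontrivial 2-subgroup T of G. -/
theorem result {G : Type*} [Group G] [Finite G] (h : ∀ t : G, orderOf t = 2 → Cfsg.generalizedFittingSubgroup ↥(Subgroup.centralizer ({t} : Set G)) = Cfsg.pCore 2 ↥(Subgroup.centralizer ({t} : Set G))) (T : Subgroup G) (hT : IsPGroup 2 ↥T) (hT1 : T ≠ ⊥) : Cfsg.generalizedFittingSubgroup ↥(Subgroup.normalizer (T : Set G)) = Cfsg.pCore 2 ↥(Subgroup.normalizer (T : Set G)) := by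
  open H4 Subgroup in
  obtain ⟨t, ht, ht1, ht2, htc⟩ := H7.exists_fixed_order_p hT hT le_normalizer hT1
  have h1 : T ≤ centralizer {t} := fun x hx =>
    mem_centralizer_singleton_iff.mpr (htc x (mem_sup_left hx))
  have h2 := (loc_inf_normalizer hT h1).gfitIn_eq
    (gfitIn_eq_pCoreIn_iff'.mpr (h t (orderOf_eq_prime ht2 ht1)))
  rw [gfitIn_eq_pCoreIn_iff] at h2
  have h3 : opE 2 (normalizer (T : Set G)) ≤ centralizer {t} ⊓ normalizer (T : Set G) :=
    le_inf ((loc_normalizer hT).opE_le_centralizer.trans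
      (centralizer_le (Set.singleton_subset_iff.mpr ht))) (opE_le _)
  rw [← gfitIn_eq_pCoreIn_iff', gfitIn_eq_pCoreIn_iff]
  exact ⟨eq_bot_iff.mpr ((layerIn_le_of_le ((layerIn_le_opE _).trans h3) inf_le_right).trans h2.1.le),
    eq_bot_iff.mpr ((le_inf le_rfl (le_sup_right.trans h3)).trans
      ((pPrimeCoreIn_inf_le inf_le_right).trans h2.2.le))⟩

end Cfsg.Agent.S1292
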