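import Cfsg.Statements.S1293
import Cfsg.Agent.H4.Asch31

set_option autoImplicit false
open Cfsg

namespace Cfsg.Agent.S1293

/-- Let G be finite with L_{p'}(G) = 1, and H = N_G(P) for a nontrivial p-subgroup P. Then L_{p'}(H) = 1 and O_{p'}(H) ≤ O_{p'}(G). -/
theorem result {G : Type*} [Group G] [Finite G] (p : ℕ) [Fact p.Prime] (hL : Cfsg.pLayer p G = ⊥) (P : Subgroup G) (hP : IsPGroup p ↥P) (hP1 : P ≠ ⊥) : Cfsg.pLayer p ↥(Subgroup.normalizer (P : Set G)) = ⊥ ∧ (Cfsg.pPrimeCore p ↥(Subgroup.normalizer (P : Set G))).map (Subgroup.normalizer (P : Set G)).subtype ≤ Cfsg.pPrimeCore p G := by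
  open H4 Subgroup in
  have key : ∀ (X : Type u_1) [Group X] [Finite X], Cfsg.IsPConstrained p X ↔ Cfsg.pLayer p X = ⊥ := by
    intro X _ _
    rw [H5.isPConstrained_iff, ← gfit_eq_pCore_iff_centralizer, gfit_eq_pCore_iff, pLayer_eq_bot_iff]
    exact ⟨fun h => h.1, fun h => ⟨h, pPrimeCore_quotient_pPrimeCore p X⟩⟩
  have h := (key G).mpr hL
  exact ⟨(key _).mp (H5.isPConstrained_of_between h hP (centralizer_le_normalizer _) le_rfl
    (Or.inl le_normalizer)), H5.pPrimeCoreIn_le_of_isPConstrained h hP (centralizer_le_normalizer _)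
    le_rfl (Or.inl le_normalizer)⟩

end Cfsg.Agent.S1293
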