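import Cfsg.Statements.S1294
import Cfsg.Agent.H5.SS10

set_option autoImplicit false
open Cfsg

namespace Cfsg.Agent.S1294

/-- Let G be finite with O_{p'}(G) = 1 and p-rank at least 3, whose reduced rank-2 commuting graph for p is connected. Let θ assign to every element a of order p with m_p(C_G(a)) ≥ 3 a solvable subgroup θ a ≤ C_G(a) of order prime to p, so that θ (g a g⁻¹) = g (θ a) g⁻¹ for all g and θ a ∩ C_G(b) ≤ θ b for commuting such a, b. Then θ a = 1 for every such a. -/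
theorem result {G : Type*} [Group G] [Finite G] (p : ℕ) [Fact p.Prime] (hO : Cfsg.pPrimeCore p G = ⊥) (hrk : ¬ Cfsg.PRankLE p 2 G) (hconn : Cfsg.IsRankGraphConnected p 2 G) (θ : G → Subgroup G) (hC : ∀ a : G, (orderOf a = p ∧ ¬ Cfsg.PRankLE p 2 ↥(Subgroup.centralizer ({a} : Set G))) → θ a ≤ Subgroup.centralizer ({a} : Set G) ∧ ¬ p ∣ Nat.card ↥(θ a) ∧ Group.IsSolvable ↥(θ a)) (heq : ∀ a g : G, (orderOf a = p ∧ ¬ Cfsg.PRankLE p 2 ↥(Subgroup.centralizer ({a} : Set G))) → θ (g * a * g⁻¹) = (θ a).map (MulAut.conj g).toMonoidHom) (hbal : ∀ a b : G, (orderOf a = p ∧ ¬ Cfsg.PRankLE p 2 ↥(Subgroup.centralizer ({a} : Set G))) → (orderOf b = p ∧ ¬ Cfsg.PRankLE p 2 ↥(Subgroup.centralizer ({b} : Set G))) → a * b = b * a → θ a ⊓ Subgroup.centralizer {b} ≤ θ b) (a : G) (ha : (orderOf a = p ∧ ¬ Cfsg.PRankLE p 2 ↥(Subgroup.centralizer ({a} : Set G)))) : θ a = ⊥ := by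
  open H5 H5.SS H4 FT Subgroup in
  have hP : ∀ E : Subgroup G, IsRankGraphVertex p 2 E → ∀ b ∈ E, b ≠ 1 →
      orderOf b = p ∧ ¬ PRankLE p 2 (Cen1 b) := fun E hE b hb h1 => by
    obtain ⟨B, hB, h⟩ := H7.not_prankLE_iff.mp hE.2.2
    exact ⟨orderOf_eq_of_elem hE.1 hb h1, H7.not_prankLE_iff.mpr ⟨B, hB.trans (cen_le_cen1 hb), h⟩⟩
  have hV : ∀ A : Subgroup G, IsElementaryAbelian p A → p ^ 3 ≤ Nat.card A →
      IsRankGraphVertex p 2 A := fun A hA h3 =>
    ⟨hA, (Nat.pow_le_pow_right (Fact.out : p.Prime).pos (by norm_num)).trans h3,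
      H7.not_prankLE_iff.mpr ⟨A, H6.EA.le_centralizer hA, hA, h3⟩⟩
  have hsig : ∀ A : Subgroup G, A ≤ ⊤ → IsElementaryAbelian p A → p ^ 3 ≤ Nat.card A →
      IsSolvableSignalizerFunctor p A θ ∧ H5.SS.Compl p A θ := fun A _ hA h3 => by
    have h := hP A (hV A hA h3)
    have : IsSolvableSignalizerFunctor p A θ := by
      refine ⟨⟨fun b hb h1 => (hC b (h b hb h1)).1, fun b hb h1 => (hC b (h b hb h1)).2.1,
        fun b hb h1 c hc x hx => ?_, fun b hb h1 c hc h2 => hbal b c (h b hb h1) (h c hc h2)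
          (H6.EA.comm hA hb hc)⟩, fun b hb h1 => (hC b (h b hb h1)).2.2⟩
      have := H4.conj_mem_conjS (g := c) hx
      rwa [H4.conjS, ← heq b c (h b hb h1), ← H6.EA.comm hA hb hc, mul_inv_cancel_right] at this
    exact ⟨this, H5.SS.ssft hA h3 this⟩
  have hall : ∀ E E' : Subgroup G, IsRankGraphVertex p 2 E → IsRankGraphVertex p 2 E' →
      signalizerClosure E θ = signalizerClosure E' θ := fun E E' hE hE' => by
    have h := hconn E E' hE hE'
    clear hE'
    induction h with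
    | refl => rfl
    | tail _ h ih =>
      have he := H6.EA.sup h.1.1 h.2.1.1 fun x hx y hy => (h.2.2 x hx y hy).symm
      rw [ih, H5.SS.closure_eq_of_le hsig le_top he le_sup_left h.1.2.1,
        H5.SS.closure_eq_of_le hsig le_top he le_sup_right h.2.1.2.1]
  obtain ⟨B, hB, hBe, hB3⟩ := H7.not_prankLE_iff.mp ha.2
  have hA := H6.EA.sup hBe (H6.EA.zpowers (ha.1 ▸ pow_orderOf_eq_one a))
    (hB.trans (FT.cen_zpowers a).ge)
  have h3 := hB3.trans (Subgroup.card_le_of_le (le_sup_left (b := Subgroup.zpowers a)))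
  have hv := hV _ hA h3
  have hW := (hsig _ le_top hA h3).2.closure_mem (hsig _ le_top hA h3).1
  refine eq_bot_iff.mpr (((H5.SS.le_closure' (Subgroup.mem_sup_right (Subgroup.mem_zpowers a))
    fun e => (Fact.out : p.Prime).ne_one (by rw [← ha.1, e, orderOf_one])).trans
    (H4.le_pPrimeCore (Subgroup.normalizer_eq_top_iff.mp (eq_top_iff.mpr fun g _ => ?_))
      (FT.coprime_of_not_dvd (H5.fam_not_dvd hW)))).trans hO.le)
  rw [H4.mem_normalizer_iff_conjS, H5.SS.conjS_closure fun b hb h1 => heq b g (hP _ hv b hb h1)]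
  exact hall _ _ (hV _ (H6.EA.map hA _) (by rwa [H4.card_conjS])) hv

end Cfsg.Agent.S1294
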