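import Cfsg.Statements.S1327
import Cfsg.Agent.H4.PLayer
import Cfsg.Agent.H5.Constr

set_option autoImplicit false
open Cfsg

namespace Cfsg.Agent.S1327

/-- A finite group X is p-constrained if and only if its p-layer L_{p'}(X) is trivial (equivalently X / O_{p'}(X) has trivial layer). -/
theorem result {X : Type*} [Group X] [Finite X] (p : ℕ) [Fact p.Prime] : Cfsg.IsPConstrained p X ↔ Cfsg.pLayer p X = ⊥ := by
  open H4 Subgroup in
  rw [H5.isPConstrained_iff, ← gfit_eq_pCore_iff_centralizer, gfit_eq_pCore_iff, pLayer_eq_bot_iff]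
  exact ⟨fun h => h.1, fun h => ⟨h, pPrimeCore_quotient_pPrimeCore p X⟩⟩

end Cfsg.Agent.S1327
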