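import Cfsg.Statements.S1295
import Cfsg.Agent.S1294
import Cfsg.Agent.S1327

set_option autoImplicit false
open Cfsg

namespace Cfsg.Agent.S1295

/-- Let G be finite with O_{p'}(G) = 1 and p-rank at least 3, whose reduced rank-2 commuting graph for p is connected. Suppose that for every element a of order p with m_p(C_G(a)) ≥ 3 the p-layer of C_G(a) is trivial and O_{p'}(C_G(a)) is solvable. Then F*(C_G(a)) = O_p(C_G(a)) for every such a. -/
theorem result {G : Type*} [Group G] [Finite G] (p : ℕ) [Fact p.Prime] (hO : Cfsg.pPrimeCore p G = ⊥) (hrk : ¬ Cfsg.PRankLE p 2 G) (hconn : Cfsg.IsRankGraphConnected p 2 G) (hL : ∀ a : G, (orderOf a = p ∧ ¬ Cfsg.PRankLE p 2 ↥(Subgroup.centralizer ({a} : Set G))) → Cfsg.pLayer p ↥(Subgroup.centralizer ({a} : Set G)) = ⊥ ∧ Group.IsSolvable ↥(Cfsg.centralizerPPrimeCore p a)) (a : G) (ha : (orderOf a = p ∧ ¬ Cfsg.PRankLE p 2 ↥(Subgroup.centralizer ({a} : Set G)))) : Cfsg.generalizedFittingSubgroup ↥(Subgroup.centralizer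 ({a} : Set G)) = Cfsg.pCore p ↥(Subgroup.centralizer ({a} : Set G)) := by
  have h0 : centralizerPPrimeCore p a = ⊥ := S1294.result p hO hrk hconn (centralizerPPrimeCore p)
    (fun b hb => ⟨H4.pPrimeCoreIn_le p _, FT.not_dvd_of_coprime (H4.coprime_card_pPrimeCoreIn p _),
      (hL b hb).2⟩) (fun b g _ => H5.SS.core_conj p g b)
    (fun b c hb hc h => H5.SS.core_balance ((S1327.result p).mpr (hL c hc).1)
      (H5.SS.pgroup_zpowers (hb.1 ▸ pow_orderOf_eq_one b)) (FT.mem_cen1_iff.mpr h)) a ha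
  exact H4.gfit_eq_pCore_iff_centralizer.mpr ((H5.isPConstrained_iff_of_eq_bot
    (H4.pPrimeCoreIn_eq_bot_iff.mp h0)).mp ((S1327.result p).mpr (hL a ha).1))

end Cfsg.Agent.S1295
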