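import Cfsg.Statements.S1323
import Cfsg.Agent.H8.SLBlock

set_option autoImplicit false
open Cfsg

namespace Cfsg.Agent.S1323

open Equiv Subgroup Finset

theorem exists_three {α : Type*} [DecidableEq α] (T : Finset α) (hT : 5 ≤ T.card) (x y : α) :
    ∃ a ∈ T, ∃ b ∈ T, a ≠ b ∧ a ≠ x ∧ a ≠ y ∧ b ≠ x ∧ b ≠ y := by
  have h1 : 1 < ((T.erase x).erase y).card := by
    have := pred_card_le_card_erase (s := T) (a := x)
    have := pred_card_le_card_erase (s := T.erase x) (a := y)
    omega
  obtain ⟨a, ha, b, hb, hab⟩ := one_lt_card.mp h1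
  simp only [mem_erase] at ha hb
  exact ⟨a, ha.2.2, b, hb.2.2, hab, ha.2.1, ha.1, hb.2.1, hb.1⟩

theorem std {α : Type*} [DecidableEq α] [Fintype α] (S : Finset α) (hS : S.card = 4)
    (hn : 9 ≤ Fintype.card α) :
    IsStandardSubgroup (alternatingGroup.ofSubtype Sᶜ).range := by
  have hT : 5 ≤ Sᶜ.card := by rw [card_compl]; omega
  set K := (alternatingGroup.ofSubtype Sᶜ).range with hK
  have hmem : ∀ k : alternatingGroup α, k ∈ K ↔ (k : Perm α).support ⊆ Sᶜ :=
    alternatingGroup.mem_range_ofSubtype_iff _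
  have hmem' : ∀ k : alternatingGroup α, k ∈ K ↔ ∀ x ∈ S, (k : Perm α) x = x := fun k => by
    rw [hmem]
    refine ⟨fun h x hx => ?_, fun h x hx => ?_⟩
    · by_contra hc
      exact (mem_compl.mp (h (Perm.mem_support.mpr hc))) hx
    · exact mem_compl.mpr fun hx' => Perm.mem_support.mp hx (h x hx')
  have hsimp : IsSimpleGroup (alternatingGroup (Sᶜ : Finset α)) :=
    alternatingGroup.isSimpleGroup (by rw [Nat.card_eq_fintype_card, Fintype.card_coe]; exact hT)
  -- three-cycles
  have h3 : ∀ x ∈ Sᶜ, ∀ y, ∃ c ∈ K, (c : Perm α) x ≠ x ∧ (y ≠ x → (c : Perm α) y = y) := by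
    intro x hx y
    obtain ⟨a, ha, b, hb, hab, hax, hay, hbx, hby⟩ := exists_three Sᶜ hT x y
    refine ⟨⟨swap x a * swap x b, by simp [Perm.mem_alternatingGroup, hax.symm, hbx.symm]⟩,
      (hmem' _).mpr fun z hz => ?_, ?_, fun h => ?_⟩
    · have e1 : z ≠ x := fun e => mem_compl.mp hx (e ▸ hz)
      have e2 : z ≠ a := fun e => mem_compl.mp ha (e ▸ hz)
      have e3 : z ≠ b := fun e => mem_compl.mp hb (e ▸ hz)
      simp [swap_apply_of_ne_of_ne, e1, e2, e3]
    · simp [swap_apply_of_ne_of_ne, hbx, hab.symm]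
    · simp [swap_apply_of_ne_of_ne, h, hay.symm, hby.symm]
  have hC : ∀ g ∈ centralizer (K : Set (alternatingGroup α)), ∀ x ∈ Sᶜ, (g : Perm α) x = x := by
    intro g hg x hx
    by_contra hc
    obtain ⟨c, hc1, hc2, hc3⟩ := h3 x hx ((g : Perm α) x)
    have h1 : (c : Perm α) * g = g * c := congrArg Subtype.val (hg c hc1)
    have h2 := congrArg (fun f : Perm α => f x) h1
    simp only [Perm.mul_apply, hc3 hc, EmbeddingLike.apply_eq_iff_eq] at h2
    exact hc2 h2.symm
  have hsupp : ∀ s ∈ centralizer (K : Set (alternatingGroup α)), orderOf s = 2 →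
      (s : Perm α).support = S := by
    intro s hs h2
    have h1 : (s : Perm α).support ⊆ S := fun x hx => by
      by_contra hc
      exact Perm.mem_support.mp hx (hC s hs x (mem_compl.mpr hc))
    refine eq_of_subset_of_card_le h1 ?_
    rw [hS]
    have ho : orderOf (s : Perm α) = 2 := by rw [Subgroup.orderOf_coe, h2]
    have e0 : (s : Perm α).support.card ≠ 0 := fun h => by
      rw [Perm.card_support_eq_zero] at h
      rw [h] at ho; simp at ho
    have e1 := Perm.card_support_ne_one (s : Perm α)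
    have e2 : (s : Perm α).support.card ≠ 2 := fun h => by
      have := (Perm.card_support_eq_two.mp h).sign_eq
      rw [Perm.mem_alternatingGroup.mp s.2] at this
      exact absurd this (by decide)
    have e3 : (s : Perm α).support.card ≠ 3 := fun h => by
      have := (card_support_eq_three_iff.mp h).orderOf
      omega
    omega
  have hKnc : ¬ IsMulCommutative (alternatingGroup (Sᶜ : Finset α)) := by
    intro hc
    obtain ⟨x, hx⟩ : Sᶜ.Nonempty := card_pos.mp (by omega)
    obtain ⟨c, hc1, hc2, -⟩ := h3 x hx x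
    refine hc2 (hC c ?_ x hx)
    obtain ⟨c, rfl⟩ := hc1
    rintro _ ⟨d, rfl⟩
    rw [← map_mul, ← map_mul, hc.is_comm.comm]
  have hq := H8.qs_range_of_injective _ (alternatingGroup.ofSubtype_injective (s := Sᶜ))
    (H4.isQuasisimple_of_isSimpleGroup hKnc)
  obtain ⟨a, b, c, d, hab, hac, had, hbc, hbd, hcd, hSe⟩ := card_eq_four.mp hS
  have hout : ∀ x, x ∉ S → x ≠ a ∧ x ≠ b ∧ x ≠ c ∧ x ≠ d := fun x hx => by
    simpa [hSe] using hx
  let t : alternatingGroup α := ⟨swap a b * swap c d, by simp [Perm.mem_alternatingGroup, hab, hcd]⟩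
  have ht : orderOf t = 2 := by
    refine H4.orderOf_eq_two' (Subtype.ext ?_) fun h => ?_
    · show swap a b * swap c d * (swap a b * swap c d) = 1
      have : swap c d * swap a b = swap a b * swap c d :=
        (Perm.disjoint_swap_swap (by simp [hac.symm, had.symm, hbc.symm, hbd.symm, hab, hcd])).commute
      rw [mul_assoc, ← mul_assoc (swap c d), this]
      simp [mul_assoc]
    · have := congrArg (fun f : alternatingGroup α => (f : Perm α) a) h
      simp [t, swap_apply_of_ne_of_ne, hac, had] at this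
      exact hab this.symm
  have htK : t ∈ centralizer (K : Set (alternatingGroup α)) := by
    intro k hk
    apply Subtype.ext
    refine (Perm.Disjoint.commute fun x => ?_)
    by_cases hx : x ∈ S
    · exact Or.inl ((hmem' k).mp hk x hx)
    · obtain ⟨e1, e2, e3, e4⟩ := hout x hx
      right
      simp [t, swap_apply_of_ne_of_ne, e1, e2, e3, e4]
  refine H8.isStandard_of' hq ht htK (fun s g hs h1 h2 => ?_) fun g hg => ?_
  · have e1 := hsupp s h1 hs
    have e2 := hsupp _ h2 (by rw [← hs]; exact (MulAut.conj g).orderOf_eq s)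
    have e3 : ∀ x ∈ S, (g : Perm α)⁻¹ x ∈ S := fun x hx => by
      rw [← e2, Perm.mem_support] at hx
      rw [← e1, Perm.mem_support]
      intro h
      apply hx
      show (g : Perm α) ((s : Perm α) ((g : Perm α)⁻¹ x)) = x
      rw [h]; simp
    apply H4.mem_normalizer_of_conjS_le
    rintro _ ⟨k, hk, rfl⟩
    refine (hmem' _).mpr fun x hx => ?_
    show (g : Perm α) ((k : Perm α) ((g : Perm α)⁻¹ x)) = x
    rw [(hmem' k).mp hk _ (e3 x hx)]; simp
  · obtain ⟨x, hx⟩ : (Sᶜ \ S.image (g : Perm α)).Nonempty := by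
      apply card_pos.mp
      have := le_card_sdiff (S.image (g : Perm α)) Sᶜ
      have := card_image_le (s := S) (f := (g : Perm α))
      omega
    rw [mem_sdiff] at hx
    have hx' : (g : Perm α)⁻¹ x ∈ Sᶜ := mem_compl.mpr fun h => hx.2 (mem_image.mpr ⟨_, h, by simp⟩)
    obtain ⟨k, hk1, hk2, -⟩ := h3 _ hx' x
    have := hC _ (hg (H4.conj_mem_conjS hk1)) x hx.1
    apply hk2
    have h5 : (g : Perm α) ((k : Perm α) ((g : Perm α)⁻¹ x)) = x := this
    rw [Perm.eq_inv_iff_eq]; exact h5


/-- For n ≥ 9, the subgroup of the alternating group on Fin n fixing each of the points 0, 1, 2, 3 is a standard subgroup. -/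
theorem result (n : ℕ) (h4 : 4 ≤ n) (hn : 9 ≤ n) : Cfsg.IsStandardSubgroup (⨅ i : Fin 4, MulAction.stabilizer ↥(alternatingGroup (Fin n)) (Fin.castLE h4 i : Fin n)) := by
  have h := std (Finset.univ.image (Fin.castLE h4)) (by
    rw [Finset.card_image_of_injective _ (Fin.castLE_injective h4)]; simp) (by simpa using hn)
  convert h using 1
  ext k
  rw [alternatingGroup.mem_range_ofSubtype_iff, Subgroup.mem_iInf]
  refine ⟨fun h x hx => ?_, fun h i => ?_⟩
  · simp only [Finset.mem_compl, Finset.mem_image, Finset.mem_univ, true_and, not_exists]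
    rintro i rfl
    exact Perm.mem_support.mp hx (h i)
  · by_contra hc
    have := h (Perm.mem_support.mpr hc)
    simp at this

end Cfsg.Agent.S1323
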