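import Cfsg.Statements.S1339
import Cfsg.Agent.H8.SLn

set_option autoImplicit false
open Cfsg

namespace Cfsg.Agent.S1339

open Matrix Subgroup Matrix.SpecialLinearGroup

theorem entries {ι F : Type*} [Field F] [Fintype ι] [DecidableEq ι] {i k : ι} (hik : i ≠ k)
    (g : SpecialLinearGroup ι F) (h : transvection hik (1 : F) * g = g * transvection hik 1) :
    (∀ a, a ≠ i → g.1 a i = 0) ∧ g.1 i i = g.1 k k ∧ ∀ b, b ≠ k → g.1 k b = 0 := by
  have h1 : (1 + single i k (1 : F)) * g.1 = g.1 * (1 + single i k (1 : F)) :=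
    congrArg Subtype.val h
  rw [add_mul, mul_add, one_mul, mul_one, add_right_inj] at h1
  refine ⟨fun a ha => ?_, ?_, fun b hb => ?_⟩
  · have := congrFun (congrFun h1 a) k
    rw [single_mul_apply_of_ne _ _ _ _ _ ha, mul_single_apply_same] at this
    simpa using this.symm
  · have := congrFun (congrFun h1 i) k
    rw [single_mul_apply_same, mul_single_apply_same] at this
    simpa using this.symm
  · have := congrFun (congrFun h1 i) b
    rw [single_mul_apply_same, mul_single_apply_of_ne _ _ _ _ _ hb] at this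
    simpa using this


/-- Let F be a field with 2 elements, n ≥ 3, and t ∈ SL(n, F) a transvection (t = 1 + E_{ij}, i ≠ j). Then the generalized Fitting subgroup of C(t) is O_2(C(t)). -/
theorem result {F : Type*} [Field F] [Fintype F] [DecidableEq F] (hF : Fintype.card F = 2) (n : ℕ) (hn : 3 ≤ n) (i j : Fin n) (hij : i ≠ j) (t : Matrix.SpecialLinearGroup (Fin n) F) (ht : (t : Matrix (Fin n) (Fin n) F) = Matrix.transvection i j 1) : Cfsg.generalizedFittingSubgroup ↥(Subgroup.centralizer ({t} : Set (Matrix.SpecialLinearGroup (Fin n) F))) = Cfsg.pCore 2 ↥(Subgroup.centralizer ({t} : Set (Matrix.SpecialLinearGroup (Fin n) F))) := by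
  haveI : Fact (Nat.Prime 2) := ⟨Nat.prime_two⟩
  have h01 : ∀ x : F, x = 0 ∨ x = 1 := fun x => by
    have := FiniteField.pow_card x
    rw [hF] at this
    have h2 : x * (x - 1) = 0 := by linear_combination this
    rcases mul_eq_zero.mp h2 with h | h
    · exact Or.inl h
    · exact Or.inr (sub_eq_zero.mp h)
  have h2 : (2 : F) = 0 := by
    have := FiniteField.cast_card_eq_zero F
    rw [hF] at this
    exact_mod_cast this
  obtain rfl : t = transvection hij 1 := Subtype.ext ht
  set C := centralizer ({transvection hij (1 : F)} : Set (SpecialLinearGroup (Fin n) F)) with hC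
  have hv : (Pi.single i (1 : F) : Fin n → F) ≠ 0 := Pi.single_ne_zero_iff.2 one_ne_zero
  let Q := lineStab (Submodule.span F {(Pi.single i (1 : F) : Fin n → F)})
  have hQ2 : IsPGroup 2 Q := H4.isPGroup_iff_forall.mpr fun A hA => ⟨1, by
    refine Subtype.ext <| ext_iff_smul.2 fun w ↦ ?_
    obtain ⟨c, hc⟩ := Submodule.mem_span_singleton.mp (hA w)
    have h3 : A • w = w + c • Pi.single i (1 : F) := by rw [hc]; abel
    show (A ^ 2 ^ 1) • w = (1 : SpecialLinearGroup (Fin n) F) • w
    rw [pow_one, pow_two, mul_smul, h3, smul_add, h3, smul_comm, lineStab_fix_of_span _ hv A hA,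
      one_smul, add_assoc, ← add_smul, ← two_mul, h2, zero_mul, zero_smul, add_zero]⟩
  have hQC : Q ≤ C := fun A hA => mem_centralizer_singleton_iff.mpr
    (lineStab_isMulCommutative_of_span' _ hv _ _ hA (SL2Gen.transvection_mem_lineStab hij 1))
  have hN : C ≤ normalizer (Q : Set (SpecialLinearGroup (Fin n) F)) := by
    intro g hg
    apply H4.mem_normalizer_of_conjS_le
    rintro _ ⟨A, hA, rfl⟩ w
    obtain ⟨c, hc⟩ := Submodule.mem_span_singleton.mp (hA (g⁻¹ • w))
    have h3 := (entries hij g (mem_centralizer_singleton_iff.mp hg).symm).1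
    have h4 : (g * A * g⁻¹) • w - w = g • (A • g⁻¹ • w - g⁻¹ • w) := by
      rw [smul_sub, smul_inv_smul, mul_smul, mul_smul]
    show (g * A * g⁻¹) • w - w ∈ _
    rw [h4, ← hc, smul_comm]
    refine Submodule.smul_mem _ _ (Submodule.mem_span_singleton.mpr ⟨g.1 i i, ?_⟩)
    ext a
    by_cases ha : a = i
    · subst ha; simp [Matrix.SpecialLinearGroup.smul_def]
    · simp [Matrix.SpecialLinearGroup.smul_def, ha, h3 a ha]
  apply H4.gfitIn_eq_pCoreIn_iff'.mp
  refine H4.gfitIn_eq_pCoreIn_of_centralizer (H4.le_pCoreIn hQC hN hQ2) (hQ2.to_le ?_)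
  rintro g ⟨-, hg⟩ w
  have h3 : ∀ k (hk : i ≠ k), _ := fun k hk =>
    entries hk g (hg _ (SL2Gen.transvection_mem_lineStab hk 1))
  have h4 : g.1 i i = 1 := by
    refine (h01 _).resolve_left fun h => g.row_ne_zero j ?_
    ext b
    by_cases hb : b = j
    · subst hb; exact (h3 b hij).2.1.symm.trans h
    · exact (h3 j hij).2.2 b hb
  refine Submodule.mem_span_singleton.mpr ⟨(g • w - w) i, ?_⟩
  ext a
  by_cases ha : a = i
  · subst ha; simp
  · have h5 := h3 a (Ne.symm ha)
    simp only [Pi.smul_apply, Pi.single_eq_of_ne ha, smul_zero, Pi.sub_apply,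
      Matrix.SpecialLinearGroup.smul_def, smul_eq_mulVec, mulVec, dotProduct]
    rw [Finset.sum_eq_single a (fun b _ hb => by rw [h5.2.2 b hb, zero_mul]) (by simp), ← h5.2.1, h4]
    simp

end Cfsg.Agent.S1339
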