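import Cfsg.Statements.S1340
import Cfsg.Agent.H8.SLBlock

set_option autoImplicit false
open Cfsg

namespace Cfsg.Agent.S1340

open Matrix Subgroup


/-- Let F be a finite field of odd order and n ≥ 3 with (n, |F|) ≠ (3, 3). Then GL(n, F) has a non-central involution t such that C(t) / O(C(t)) has a component. -/
theorem result {F : Type*} [Field F] [Fintype F] [DecidableEq F] (hF : Odd (Fintype.card F)) (n : ℕ) (hn : 3 ≤ n) (h33 : ¬ (n = 3 ∧ Fintype.card F = 3)) : ∃ t : Matrix.GeneralLinearGroup (Fin n) F, orderOf t = 2 ∧ t ∉ Subgroup.center (Matrix.GeneralLinearGroup (Fin n) F) ∧ Cfsg.HasComponent (↥(Subgroup.centralizer ({t} : Set (Matrix.GeneralLinearGroup (Fin n) F))) ⧸ Cfsg.oddCore ↥(Subgroup.centralizer ({t} : Set (Matrix.GeneralLinearGroup (Fin n) F)))) := by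
  haveI : Fact (Nat.Prime 2) := ⟨Nat.prime_two⟩
  have hm := H8.neg_one_ne_one_of_odd hF
  let n0 : Fin n := ⟨0, by omega⟩
  let e := H8.splitAt n0
  have hcard : Fintype.card {i // i ≠ n0} = n - 1 := by rw [H8.card_ne_subtype]; simp
  have hsq : H8.blk e ((1 : F) • 1) (-1 : F) * H8.blk e ((1 : F) • 1) (-1 : F) = 1 := by
    rw [H8.blk_mul, ← H8.blk_one e]; simp
  let t : GL (Fin n) F := ⟨H8.blk e ((1 : F) • 1) (-1 : F), H8.blk e ((1 : F) • 1) (-1 : F), hsq, hsq⟩
  have hok : H8.SLOk {i // i ≠ n0} F := by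
    by_cases h3 : n = 3
    · refine Or.inr ⟨by omega, H8.exists_sq_ne_one ?_⟩
      rw [Nat.card_eq_fintype_card]
      have h1 : 1 < Fintype.card F := Fintype.one_lt_card
      have h2 : Fintype.card F ≠ 3 := fun h => h33 ⟨h3, h⟩
      rw [Nat.odd_iff] at hF
      omega
    · exact Or.inl (by omega)
  haveI := hok.nontrivial
  haveI : Nonempty (Fin n) := ⟨n0⟩
  let f := (SpecialLinearGroup.toGL (n := Fin n) (R := F)).comp (H8.embSL e)
  have hf : Function.Injective f :=
    SpecialLinearGroup.toGL_injective.comp (H8.embSL_injective e)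
  have hfc : ∀ B, ((f B : GL (Fin n) F) : Matrix (Fin n) (Fin n) F) = H8.blk e B 1 := fun B => rfl
  have hK := H8.qs_range_of_injective f hf (H8.sl_quasisimple hok)
  have ht2 : orderOf t = 2 := by
    refine orderOf_eq_prime (Units.ext (by rw [pow_two]; exact hsq)) fun h => ?_
    have h1 : H8.blk e ((1 : F) • 1) (-1 : F) = H8.blk e 1 (1 : F) := by
      rw [H8.blk_one]; exact congrArg Units.val h
    exact hm (H8.blk_inj e h1).2
  refine ⟨t, ht2, fun hc => ?_, ?_⟩
  · obtain ⟨c, hc⟩ := H8.scalar_of_commute (A := H8.blk e ((1 : F) • 1) (-1 : F)) (fun B => by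
      have := mem_center_iff.mp hc (SpecialLinearGroup.toGL B)
      exact congrArg Units.val this)
    have h1 : H8.blk e ((1 : F) • 1) (-1 : F) = H8.blk e (c • 1) c := by
      rw [hc, H8.blk_splitAt]; ext i j; simp [diagonal_apply, one_apply]
    obtain ⟨h2, h3⟩ := H8.blk_inj e h1
    obtain ⟨i⟩ : Nonempty {i // i ≠ n0} := inferInstance
    have h4 := congrFun (congrFun h2 i) i
    simp only [Matrix.smul_apply, one_apply_eq, smul_eq_mul, mul_one] at h4
    exact hm (h3.trans h4.symm)
  · set C := centralizer ({t} : Set (GL (Fin n) F)) with hC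
    have hKC : f.range ≤ C := by
      rintro _ ⟨B, rfl⟩
      rw [mem_centralizer_singleton_iff]
      apply Units.ext
      show H8.blk e B.1 (1 : F) * H8.blk e _ _ = H8.blk e _ _ * H8.blk e B.1 (1 : F)
      rw [H8.blk_mul, H8.blk_mul]; simp
    have hN : C ≤ normalizer (f.range : Set (GL (Fin n) F)) := by
      intro g hg
      apply H4.mem_normalizer_of_conjS_le
      rintro _ ⟨_, ⟨B, rfl⟩, rfl⟩
      have h1 := mem_centralizer_singleton_iff.mp hg
      have h2 := mem_centralizer_singleton_iff.mp (inv_mem hg)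
      obtain ⟨B', hB'⟩ := H8.conj_blk e hm.symm g.mul_inv (congrArg Units.val h1)
        (congrArg Units.val h2) B
      exact ⟨B', Units.ext hB'.symm⟩
    have hc : H4.CompIn C f.range := ⟨H4.SN.of_normal hKC hN, hK⟩
    have hc2 : H4.CompIn ⊤ (f.range.subgroupOf C) :=
      H4.compIn_top_iff.mpr (H4.compIn_iff.mp hc).2
    obtain ⟨i, j, hij⟩ := exists_pair_ne {i // i ≠ n0}
    have hm0 : (-1 : F) ≠ 0 := neg_ne_zero.mpr one_ne_zero
    have hs : orderOf (SpecialLinearGroup.diag2n hij (-1 : F) hm0) = 2 := by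
      refine orderOf_eq_prime ?_ fun h => ?_
      · rw [pow_two]
        apply Subtype.ext
        show (SpecialLinearGroup.diag2n hij (-1 : F) hm0).1 *
          (SpecialLinearGroup.diag2n hij (-1 : F) hm0).1 = 1
        rw [SpecialLinearGroup.diag2n_coe, diagonal_mul_diagonal, ← diagonal_one]
        congr 1
        ext k
        split_ifs <;> simp
      · have := congrFun (congrFun (congrArg Subtype.val h) i) i
        simp [SpecialLinearGroup.diag2n_coe] at this
        exact hm this
    have hne : (f.range.subgroupOf C).map (QuotientGroup.mk' (oddCore C)) ≠ ⊥ := by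
      intro h
      rw [Subgroup.map_eq_bot_iff, QuotientGroup.ker_mk'] at h
      have h1 : (⟨f (SpecialLinearGroup.diag2n hij (-1 : F) hm0), hKC ⟨_, rfl⟩⟩ : C) ∈ oddCore C :=
        h ⟨_, rfl⟩
      have h2 := H4.coprime_orderOf_of_mem (H4.coprime_card_pPrimeCore 2 C) h1
      rw [Subgroup.orderOf_mk, orderOf_injective f hf, hs] at h2
      norm_num at h2
    have hc3 := hc2.map _ hne
    rw [map_top_of_surjective _ (QuotientGroup.mk'_surjective _)] at hc3
    exact ⟨_, H4.compIn_top_iff.mp hc3⟩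

end Cfsg.Agent.S1340
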