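import Cfsg.Statements.S1743
import Cfsg.Agent.GA2.Mk
import Cfsg.Agent.G2.Syl

set_option autoImplicit false
open Cfsg

namespace Cfsg.Agent.S1743

open Subgroup

/-- Let G be a finite simple group whose Sylow 2-subgroups are isomorphic to a Sylow 2-subgroup of the Chevalley group of type G₂ over a finite field of odd order, and let S be a Sylow 2-subgroup of G. Then either all involutions of G are conjugate, or S has order 64 and the involutions of G form exactly two conjugacy classes. -/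
theorem result {G : Type*} [Group G] [Finite G] [IsSimpleGroup G]
    {F : Type*} [Field F] [Fintype F] (hF : Odd (Fintype.card F)) (S : Sylow 2 G) (P : Sylow 2 ↥(Cfsg.Lie.chevG2.group F))
    (hS : Nonempty (↥(S : Subgroup G) ≃* ↥(P : Subgroup ↥(Cfsg.Lie.chevG2.group F)))) :
    (∀ x y : G, orderOf x = 2 → orderOf y = 2 → IsConj x y) ∨
      (Nat.card ↥(S : Subgroup G) = 64 ∧ ∃ x y : G, orderOf x = 2 ∧ orderOf y = 2 ∧ ¬ IsConj x y ∧
        ∀ z : G, orderOf z = 2 → IsConj z x ∨ IsConj z y) := by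
  obtain ⟨e⟩ := hS
  obtain ⟨k, x, y, s, r, h1, h2, h3, h4, h5, h6, h7, h8, h9, h10, hc, hg⟩ := G2.sylow hF P
  obtain ⟨E, h⟩ := GA2.mkP (H5.isSylowOf_top S) e ⟨h1, h2, h3, h4, h5, h6, h7, h8, h9, h10⟩ hg
  by_cases c : IsConj (E 0 0 GA2.K.s) (E (2 * 2 ^ k) (2 * 2 ^ k) GA2.K.o)
  · have key := fun t (o : orderOf t = 2) => (h.cls o).elim id fun e => e.trans c
    exact Or.inl fun x y hx hy => (key x hx).trans (key y hy).symm
  · obtain rfl := GA2.k_zero (h.two_cls c)
    exact Or.inr ⟨(Nat.card_congr e.toEquiv).trans hc, _, _, h.oz, h.os, fun e => c e.symm,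
      fun z hz => h.cls hz⟩

end Cfsg.Agent.S1743
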