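import Cfsg.Statements.S1744
import Cfsg.Agent.GA2.Mk
import Cfsg.Agent.GA2.G
import Cfsg.Agent.G2.Syl
import Cfsg.Agent.GW.Cv5

set_option autoImplicit false
open Cfsg

namespace Cfsg.Agent.S1744

open Subgroup

/-- Let G be a finite simple group whose Sylow 2-subgroups are isomorphic to a Sylow 2-subgroup of the Chevalley group of type G₂ over a finite field of odd order, in which all involutions are conjugate. Let S be a Sylow 2-subgroup, t an involution in the centre of S, C its centralizer and Q the quotient of C by its largest normal subgroup of odd order. Then Q has normal subgroups L₁ and L₂, isomorphic to special linear groups of dimension 2 over fields of odd orders, which commute elementwise and whose product is the commutator subgroup of Q. -/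
theorem result {G : Type*} [Group G] [Finite G] [IsSimpleGroup G]
    {F : Type*} [Field F] [Fintype F] (hF : Odd (Fintype.card F)) (S : Sylow 2 G) (P : Sylow 2 ↥(Cfsg.Lie.chevG2.group F))
    (hS : Nonempty (↥(S : Subgroup G) ≃* ↥(P : Subgroup ↥(Cfsg.Lie.chevG2.group F))))
    (h1 : ∀ x y : G, orderOf x = 2 → orderOf y = 2 → IsConj x y) (t : G) (ht : orderOf t = 2) (htS : t ∈ (S : Subgroup G))
    (htZ : ∀ s ∈ (S : Subgroup G), s * t = t * s) :
    ∃ L₁ L₂ : Subgroup (↥(Subgroup.centralizer ({t} : Set G)) ⧸ Cfsg.oddCore ↥(Subgroup.centralizer ({t} : Set G))),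
      L₁.Normal ∧ L₂.Normal ∧
      (∃ (F₁ : Type) (_ : Field F₁) (_ : Fintype F₁), Odd (Fintype.card F₁) ∧ Nonempty (↥L₁ ≃* Matrix.SpecialLinearGroup (Fin 2) F₁)) ∧
      (∃ (F₂ : Type) (_ : Field F₂) (_ : Fintype F₂), Odd (Fintype.card F₂) ∧ Nonempty (↥L₂ ≃* Matrix.SpecialLinearGroup (Fin 2) F₂)) ∧
      ⁅L₁, L₂⁆ = ⊥ ∧ L₁ ⊔ L₂ = commutator _ := by
  obtain ⟨e⟩ := hS
  obtain ⟨k, x, y, s, r, h1', h2, h3, h4, h5, h6, h7, h8, h9, h10, hc, hg⟩ := G2.sylow hF P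
  obtain ⟨E, h⟩ := GA2.mkP (H5.isSylowOf_top S) e ⟨h1', h2, h3, h4, h5, h6, h7, h8, h9, h10⟩ hg
  obtain rfl := h.cent htS ht fun s hs => GW.c1.2 (htZ s hs)
  have hf := QuotientGroup.mk'_surjective (oddCore (FT.Cen1 (E (2 * 2 ^ k) (2 * 2 ^ k) GA2.K.o)))
  have pm : ∀ (a g : FT.Cen1 (E (2 * 2 ^ k) (2 * 2 ^ k) GA2.K.o)), (g : G) ∈ GA2.Pm (a : G) →
      QuotientGroup.mk' (oddCore _) g ∈ GA2.Pm (QuotientGroup.mk' (oddCore _) a) := fun a g hg => by
    rw [GA2.mPm, ← map_inv, ← map_inv, ← map_mul, ← map_mul]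
    exact hg.imp (fun e => congrArg _ (Subtype.ext e)) fun e => congrArg _ (Subtype.ext e)
  obtain ⟨g, g1, g2, g3⟩ := h.exg (h1 _ _ h.oz h.ou) (h1 _ _ h.oz h.os)
  obtain ⟨g', g1', g2', g3'⟩ := h.symm.exg (h1 _ _ h.symm.oz h.symm.ou) (h1 _ _ h.symm.oz h.symm.os)
  rw [h.symz] at g1'
  refine GA2.Z.fin ⟨h.map h.Sz hf GW.odd_ker_mk, fun g => ?_, H5.pPrimeCore_eq_bot_of_ker hf
    (QuotientGroup.ker_mk' _).symm, ⟨_, pm ⟨_, h.Sz (h.mem _ _ _)⟩ ⟨g, g1⟩ g2, ?_⟩,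
    _, pm ⟨_, h.Sz (h.mem _ _ _)⟩ ⟨g', g1'⟩ g2', ?_⟩
  · obtain ⟨g, rfl⟩ := hf g
    refine GW.c1.2 ?_
    rw [← map_mul, ← map_mul]
    exact congrArg _ (Subtype.ext (GW.c1.1 g.2))
  · rw [← map_inv, ← map_mul, ← map_mul]
    exact congrArg _ (Subtype.ext g3)
  · rw [← map_inv, ← map_mul, ← map_mul]
    exact congrArg _ (Subtype.ext (by simpa [GA2.sy, GA2.K.sw] using g3'))

end Cfsg.Agent.S1744
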