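import Cfsg.Statements.S2029
import Cfsg.Agent.H4.KM4

set_option autoImplicit false
open Cfsg

namespace Cfsg.Agent.S2029

open H4 H5 Subgroup

theorem char_centralizer {G : Type*} [Group G] [Finite G] {p : ℕ} [Fact p.Prime] {T : Subgroup G}
    (hT : IsPGroup p T) (h : centralizer (pCore p (normalizer (T : Set G)) : Set (normalizer (T : Set G))) ≤
      pCore p (normalizer (T : Set G))) :
    centralizer (T : Set G) ⊓ centralizer (pCoreIn p (centralizer (T : Set G)) : Set G) ≤
      pCoreIn p (centralizer (T : Set G)) :=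
  H9.char_of_le (isPConstrained_of_centralizer_le h) (pPrimeCore_eq_bot_of_centralizer_le h) hT
    Subgroup.le_normalizer (centralizer_le_normalizer _) le_rfl (centralizer_le_normalizer _)
    (Or.inr le_rfl)

/-- Let p be an odd prime and G a finite group that is both of local characteristic p (p divides its order and every p-local subgroup N satisfies C_N(O_p(N)) ≤ O_p(N)) and of characteristic 2 type (even order and every 2-local subgroup M satisfies C_M(O_2(M)) ≤ O_2(M)). Then every 2-local subgroup of G has p-rank at most 2. -/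
theorem result {G : Type*} [Group G] [Finite G] (p : ℕ) [Fact p.Prime] (hp : p ≠ 2) (hGp : Cfsg.IsOfLocalCharacteristic p G) (hG2 : Cfsg.IsCharacteristicTwoType G) : Cfsg.TwoLocalPRankLE p 2 G := by
  open H4 H5 Subgroup in
  rintro _ ⟨R, hR, hR0, rfl⟩
  rw [pRankLE_iff]
  by_contra! hc
  obtain ⟨A₁, hA₁R, hA₁, hc⟩ := hc
  obtain ⟨A₀, hA₀, hA₀c⟩ := exists_le_card_eq (isPGroup_of_elem hA₁)
    (H7.pow_succ_le_card_of_lt (isPGroup_of_elem hA₁) hc)
  have hA₀e := elem_of_le hA₁ hA₀
  have hp1 := (Fact.out : p.Prime).one_lt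
  obtain ⟨z₀, -, hz₀⟩ := exists_orderOf_eq_prime_mem (p := 2) (N := (⊤ : Subgroup G))
    (by rw [card_top]; exact hG2.1.two_dvd)
  obtain ⟨⟨A, z⟩, ⟨hA, hz, hAz⟩, hmax⟩ := Set.exists_max_image
    {x : Subgroup G × G | IsElementaryAbelian p x.1 ∧ orderOf x.2 = 2 ∧ x.1 ≤ centralizer {x.2}}
    (fun x => Nat.card x.1) (Set.toFinite _)
    ⟨(⊥, z₀), ⟨inferInstance, fun a ha => by rw [mem_bot.mp ha, one_pow]⟩, hz₀, bot_le⟩
  have h : KM G p (Nat.card A) := by
    refine ⟨hp, fun B hB h0 => char_centralizer (isPGroup_of_elem hB)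
      (hGp.2 B (isPGroup_of_elem hB) h0), fun z hz => ?_, fun A' z' h1 h2 h3 => hmax (A', z') ⟨h1, h2, h3⟩⟩
    rw [← H4.centralizer_zpowers]
    exact char_centralizer (isPGroup_zpowers_of_orderOf hz) (hG2.2 _ (isPGroup_zpowers_of_orderOf hz)
      (by rw [Ne, zpowers_eq_bot]; exact ne_one_of_orderOf hz))
  refine h.false ?_ hA rfl hz hAz
  by_contra! hlt
  have hn : A₀ ≤ normalizer (R : Set G) := hA₀.trans hA₁R
  have hZc : IsMulCommutative (R ⊓ centralizer (R : Set G) : Subgroup G) :=
    isMulCommutative_of_forall fun a ha b hb => hb.2 a ha.1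
  let V := omegaComm (R ⊓ centralizer (R : Set G))
    (fun _ ha _ hb => comm_of_isMulCommutative hZc ha hb) 2
  have hV : IsElementaryAbelian 2 V := ⟨isMulCommutative_of_le hZc fun _ h => h.1, fun _ h => h.2⟩
  have hVn : A₀ ≤ normalizer (V : Set G) := fun a ha => mem_normalizer_of_forall fun e he =>
    ⟨conj_mem_of_le_normalizer (H4.le_normalizer_inf hn (H4.le_normalizer_centralizer hn)) ha he.1,
      by rw [conj_pow, he.2]; group⟩
  obtain ⟨w, hw, hw1, hw2, hwc⟩ := H7.exists_fixed_order_p hR hR Subgroup.le_normalizer hR0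
  refine hw1 (mem_bot.mp (le_of_hyperplanes (H := ⊥) hA₀e (ne_bot_of_card_ge (k := 2) hA₀c.ge) hVn
    (not_dvd_of_twoGroup hp (isPGroup_of_elem hV)) (fun B hB hi u hu => ?_)
    (show w ∈ V from ⟨⟨hw, fun y hy => hwc y (mem_sup_left hy)⟩, hw2⟩)))
  by_contra hu1
  have hcB := H5.card_mul_relIndex hB
  rw [hi, hA₀c, pow_succ] at hcB
  have hcB' : Nat.card B = p ^ 2 := Nat.eq_of_mul_eq_mul_right (by omega) hcB
  have huu : u * u = 1 := by rw [← pow_two]; exact hu.1.2
  have hAu : A₀ ≤ centralizer {u} := fun a ha => by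
    by_contra hau
    have hu' : a * u * a⁻¹ ∈ V ⊓ centralizer (B : Set G) := conj_mem_of_le_normalizer
      (H4.le_normalizer_inf hVn (H4.le_normalizer_centralizer (le_normalizer_of_comm hA₀e.1 hB))) ha hu
    have hvv : a * u * a⁻¹ * (a * u * a⁻¹) = 1 := by rw [← pow_two]; exact hu'.1.2
    have huv := comm_of_isMulCommutative hV.1 hu.1 hu'.1
    have := h.two (elem_of_le hA₀e hB) (ne_bot_of_card_ge (k := 1) hcB'.ge) (elem_four huu hvv huv)
      (four_le huu hvv huv hu.2 hu'.2) (le_card_four huu hvv huv hu1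
        (fun e => hu1 (by rw [mem_bot, show u = a⁻¹ * (a * u * a⁻¹) * a by group, e]; group))
        fun e => hau (mem_centralizer_singleton_iff.mpr (by
          calc a * u = a * u * a⁻¹ * a := by group
            _ = u * a := by rw [← e])))
    rw [hcB', ← pow_succ] at this
    exact hlt.not_ge this
  have := h.max A₀ u hA₀e (orderOf_eq_two' huu hu1) hAu
  rw [hA₀c] at this
  exact hlt.not_ge this

end Cfsg.Agent.S2029
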