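import Cfsg.Statements.S3104
import Cfsg.Agent.R4.F
import Cfsg.Agent.S3103

set_option autoImplicit false
open Cfsg

namespace Cfsg.Agent.S3104

/-- Let X be a finite nonsolvable 2-constrained group with no nontrivial normal subgroup of odd order such that O₂(X) has sectional 2-rank at most 4, and write Q for X/O₂(X). Then Q is isomorphic to the projective special linear group of dimension 3 over the field with 2 elements, to an alternating group of degree n with 5 ≤ n ≤ 8, to a symmetric group of degree n with 5 ≤ n ≤ 7, or else O₃(Q) has order 3 and Q/O₃(Q) is isomorphic to the alternating or the symmetric group of degree 5 (so Q is the direct product of a group of order 3 with the alternating group of degree 5, or an extension of that direct product by a group of order 2). If moreover X itself has sectional 2-rank at most 4, then Q is not isomorphic to the symmetric group of degree 6 or 7 nor to the alternating group of degree 8. -/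
theorem result {X : Type*} [Group X] [Finite X] (hns : ¬ Group.IsSolvable X) (hc : Cfsg.IsPConstrained 2 X) (hO : Cfsg.oddCore X = ⊥)
    (h4 : Cfsg.SectionalPRankLE 2 4 ↥(Cfsg.pCore 2 X)) :
    ((∃ (F : Type) (_ : Field F) (_ : Fintype F), Fintype.card F = 2 ∧
          Nonempty (X ⧸ Cfsg.pCore 2 X ≃* Matrix.ProjectiveSpecialLinearGroup (Fin 3) F)) ∨
        (∃ n : ℕ, 5 ≤ n ∧ n ≤ 8 ∧ Nonempty (X ⧸ Cfsg.pCore 2 X ≃* ↥(alternatingGroup (Fin n)))) ∨
        (∃ n : ℕ, 5 ≤ n ∧ n ≤ 7 ∧ Nonempty (X ⧸ Cfsg.pCore 2 X ≃* Equiv.Perm (Fin n))) ∨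
        (Nat.card ↥(Cfsg.pCore 3 (X ⧸ Cfsg.pCore 2 X)) = 3 ∧
          (Nonempty ((X ⧸ Cfsg.pCore 2 X) ⧸ Cfsg.pCore 3 (X ⧸ Cfsg.pCore 2 X) ≃* ↥(alternatingGroup (Fin 5))) ∨
            Nonempty ((X ⧸ Cfsg.pCore 2 X) ⧸ Cfsg.pCore 3 (X ⧸ Cfsg.pCore 2 X) ≃* Equiv.Perm (Fin 5))))) ∧
      (Cfsg.SectionalPRankLE 2 4 X →
        ¬ (Nonempty (X ⧸ Cfsg.pCore 2 X ≃* Equiv.Perm (Fin 6)) ∨ Nonempty (X ⧸ Cfsg.pCore 2 X ≃* Equiv.Perm (Fin 7)) ∨
            Nonempty (X ⧸ Cfsg.pCore 2 X ≃* ↥(alternatingGroup (Fin 8))))) := by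
  have hC := (H5.isPConstrained_iff_of_eq_bot hO).1 hc
  refine ⟨?_, fun h r => R4.part2 hC h4 (R4.sr_of h) ?_⟩
  · obtain ⟨f, i⟩ := S3103.result hc hO h4
    have hn : ¬ Group.IsSolvable (X ⧸ pCore 2 X) := fun r => hns ((Group.isSolvable_iff_subgroup_quotient _).2
      ⟨H5.isSolvable_of_isPGroup (H4.isPGroup_pCore 2 X), r⟩)
    by_cases h5 : 5 ∣ Nat.card (X ⧸ pCore 2 X)
    · exact Or.inr (or_assoc.1 (R4.perm8 (σ := (Subgroup.subtype _).comp f)
        ((Subgroup.subtype_injective _).comp i) (fun y => (f y).2) hn h5))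
    · have d := Subgroup.card_dvd_of_injective f i
      rw [H8.card_A8, show 20160 = 2 ^ 6 * 3 ^ 2 * 7 * 5 by norm_num] at d
      exact Or.inl ⟨ZMod 2, _, _, rfl, R4.lin' hC (R4.sr_of h4) hns h5 (Dvd.dvd.trans (by norm_num)
        (R4.dv12 (by norm_num) (by norm_num) (by norm_num) hn
          ((Nat.prime_five.coprime_iff_not_dvd.2 h5).symm.dvd_of_dvd_mul_right d)))⟩
  · rcases r with ⟨⟨e⟩⟩ | ⟨⟨e⟩⟩ | ⟨⟨e⟩⟩ <;> rw [Nat.card_congr e.toEquiv]
    · rw [Nat.card_perm, Nat.card_fin]; decide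
    · rw [Nat.card_perm, Nat.card_fin]; decide
    · rw [H8.card_A8]; decide

end Cfsg.Agent.S3104
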