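import Cfsg.Statements.S3106
import Cfsg.Agent.R4.C

set_option autoImplicit false
open Cfsg

namespace Cfsg.Agent.S3106

/-- Let X be a finite nonsolvable 2-constrained group with no nontrivial normal subgroup of odd order and of sectional 2-rank at most 4, and suppose X/O₂(X) contains a subgroup isomorphic to the alternating group of degree 5. Then O₂(X) is elementary abelian of order 16, or O₂(X) is a central product of a quaternion group of order 8 and a dihedral group of order 8 (it has order 32 and is generated by two elementwise-commuting subgroups, one quaternion of order 8 and one dihedral of order 8, meeting in the centre). -/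
theorem result {X : Type*} [Group X] [Finite X] (hns : ¬ Group.IsSolvable X) (hc : Cfsg.IsPConstrained 2 X) (hO : Cfsg.oddCore X = ⊥)
    (h4 : Cfsg.SectionalPRankLE 2 4 X)
    (hQ : ∃ A : Subgroup (X ⧸ Cfsg.pCore 2 X), Nonempty (↥A ≃* ↥(alternatingGroup (Fin 5)))) :
    (Cfsg.IsElementaryAbelian 2 (Cfsg.pCore 2 X) ∧ Nat.card ↥(Cfsg.pCore 2 X) = 16) ∨
      (Nat.card ↥(Cfsg.pCore 2 X) = 32 ∧ ∃ A B : Subgroup ↥(Cfsg.pCore 2 X),
        Nonempty (↥A ≃* QuaternionGroup 2) ∧ Nonempty (↥B ≃* DihedralGroup 4) ∧ (∀ a ∈ A, ∀ b ∈ B, a * b = b * a) ∧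
          A ⊔ B = ⊤ ∧ A ⊓ B = Subgroup.center ↥(Cfsg.pCore 2 X)) := by
  have sr := R4.sr_of h4
  obtain ⟨A, ⟨e⟩⟩ := hQ
  obtain ⟨⟨f, h⟩, c⟩ := R4.main5 ((H5.isPConstrained_iff_of_eq_bot hO).1 hc) sr A e
  have p : 0 < Nat.card (R4.Ph (pCore 2 X)) := Nat.card_pos
  rcases (by omega : Nat.card (R4.Ph (pCore 2 X)) = 1 ∨ Nat.card (R4.Ph (pCore 2 X)) = 2) with r | r
  · exact Or.inl ⟨M4.el_ea fun a ha => (Subgroup.card_eq_one.1 r).le (R4.sqP ha), by rw [h.V.1, r]⟩
  · obtain ⟨c, A, B, h1, h2, ⟨a⟩, ⟨b⟩, h3, h5, h6⟩ := h.prod r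
    refine Or.inr ⟨c, A.subgroupOf _, B.subgroupOf _, ⟨(Subgroup.subgroupOfEquivOfLe h1).trans a⟩,
      ⟨(Subgroup.subgroupOfEquivOfLe h2).trans b⟩, fun x hx y hy => Subtype.ext (GW.cen.1 (h3 hx) _ hy),
      by rw [← Subgroup.subgroupOf_sup h1 h2, h5, Subgroup.subgroupOf_self], Subgroup.ext fun x => ?_⟩
    exact (SetLike.ext_iff.1 h6 (x : X)).trans ⟨fun e => Subgroup.mem_center_iff.2 fun y =>
      Subtype.ext (GW.cen.1 e.2 y y.2).symm, fun e => ⟨x.2, GW.cen.2 fun y hy =>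
        congrArg Subtype.val (Subgroup.mem_center_iff.1 e ⟨y, hy⟩).symm⟩⟩

end Cfsg.Agent.S3106
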