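import Cfsg.Statements.S3111
import Cfsg.Agent.GC.U
import Cfsg.Agent.H5.Dich2

set_option autoImplicit false
open Cfsg

namespace Cfsg.Agent.S3111

/-- Let G be a non-abelian finite simple group some Sylow 2-subgroup of which has a self-centralizing abelian normal subgroup of 2-rank at least 3. Then either the centralizer of every involution of G has no nontrivial normal subgroup of odd order, or G has an unbalancing triple: commuting involutions a, x and an x-invariant 2-component L of C_G(a) with L = O(L)[L, O(C_G(x)) ∩ C_G(a)], where O(·) denotes the largest normal subgroup of odd order. -/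
theorem result {G : Type*} [Group G] [Finite G] [IsSimpleGroup G] (hG : ¬ IsMulCommutative G)
    (S : Sylow 2 G) (A : Subgroup ↥(S : Subgroup G)) (hAn : A.Normal) (hAab : IsMulCommutative ↥A)
    (hAC : Subgroup.centralizer (A : Set ↥(S : Subgroup G)) = A) (hA3 : ¬ Cfsg.PRankLE 2 2 ↥A) :
    (∀ t : G, orderOf t = 2 → Cfsg.centralizerPPrimeCore 2 t = ⊥) ∨
      ∃ (a x : G) (L : Subgroup ↥(Subgroup.centralizer ({a} : Set G))), orderOf a = 2 ∧ orderOf x = 2 ∧ Commute a x ∧
        Cfsg.IsPComponent 2 L ∧ (∀ l ∈ L.map (Subgroup.centralizer ({a} : Set G)).subtype, x * l * x⁻¹ ∈ L.map (Subgroup.centralizer ({a} : Set G)).subtype) ∧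
        L.map (Subgroup.centralizer ({a} : Set G)).subtype =
          (Cfsg.oddCore ↥L).map ((Subgroup.centralizer ({a} : Set G)).subtype.comp L.subtype) ⊔
            ⁅L.map (Subgroup.centralizer ({a} : Set G)).subtype, Cfsg.centralizerPPrimeCore 2 x ⊓ Subgroup.centralizer ({a} : Set G)⁆ := by
  
  refine or_iff_not_imp_right.mpr fun hn t ht => ?_
  obtain ⟨V, h1, h2, h3, h4⟩ := H5.SS.exists_normal_elem S A hAn hAab hA3 S
  have hb : H5.Dich.Bal G := GC.bal_of fun a x E ha hx e hE n h => hn ⟨a, x, E.subgroupOf _, ha, hx, e,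
    (H4.pcompIn_iff.mp hE).2, by
      rw [Subgroup.map_subgroupOf_eq_of_le hE.le]
      exact fun l hl => (Subgroup.mem_normalizer_iff.mp n l).mp hl, by
      rw [Subgroup.map_subgroupOf_eq_of_le hE.le, h, eq_comm, sup_eq_right, ← Subgroup.map_map]
      exact (Subgroup.map_mono (Subgroup.map_subtype_le _)).trans
        (Subgroup.map_subgroupOf_eq_of_le hE.le).le⟩
  have h0 := H5.Dich.oddCore_eq_bot_of_simple (ht ▸ orderOf_dvd_natCard t)
  exact (GC.th_eq t).trans (GC.cor_bal (GC.kUp _) hb (H5.isSylowOf_top S) ⟨V, h1, h3, h4⟩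
    (GC.cn_of_normal h1 h2 h3 h4) (GC.Od_top.trans h0)
    ⟨H4.ne_one_of_orderOf ht, H4.mul_self_eq_one_of_orderOf ht⟩)

end Cfsg.Agent.S3111
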