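import Cfsg.Statements.S3170
import Cfsg.Agent.M4.M24
import Cfsg.Agent.GW.Cv2

set_option autoImplicit false
open Cfsg

namespace Cfsg.Agent.S3170

open Subgroup FT H4 H5 GW L M4
open scoped commutatorElement

/-- Let H be a finite group with no nontrivial normal subgroup of odd order whose Sylow 2-subgroup T is isomorphic to a Sylow 2-subgroup of the Mathieu group of degree 24, and suppose that the centre of T lies in the centre of H. If E is a subgroup of T that is normal in T and extraspecial of order 2^7, and E is the only such subgroup of T, then E is normal in H. -/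
theorem result {H : Type*} [Group H] [Finite H]
    (hO : Cfsg.oddCore H = ⊥) (T : Sylow 2 H) (P : Sylow 2 ↥Cfsg.M24)
    (hT : Nonempty (↥(T : Subgroup H) ≃* ↥(P : Subgroup ↥Cfsg.M24)))
    (hZ : ∀ z ∈ (T : Subgroup H), (∀ t ∈ (T : Subgroup H), z * t = t * z) → z ∈ Subgroup.center H)
    (E : Subgroup H) (hE : E ≤ (T : Subgroup H)) (hEn : (E.subgroupOf (T : Subgroup H)).Normal)
    (hEx : Cfsg.IsExtraspecial 2 ↥E) (hE7 : Nat.card ↥E = 2 ^ 7)
    (huniq : ∀ E' : Subgroup H, E' ≤ (T : Subgroup H) → (E'.subgroupOf (T : Subgroup H)).Normal →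
      Cfsg.IsExtraspecial 2 ↥E' → Nat.card ↥E' = 2 ^ 7 → E' = E) :
    E.Normal := by
  obtain ⟨e⟩ := iso_U5 P
  obtain ⟨r⟩ := hT
  let f := (T : Subgroup H).subtype.comp (e.trans r.symm).toMonoidHom
  have fi : Function.Injective f := (subtype_injective _).comp (e.trans r.symm).injective
  have fr : f.range = T := by
    rw [MonoidHom.range_comp, MonoidHom.range_eq_top.2 (e.trans r.symm).surjective,
      ← MonoidHom.range_eq_map, range_subtype]
  have h0c := mem_Z.2 (Or.inr rfl)
  have zc : ∀ g, g * f h0 = f h0 * g := mem_center_iff.1 (hZ _ (fr.le ⟨_, rfl⟩) fun t ht => by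
    obtain ⟨t, rfl⟩ := fr.ge ht
    rw [← map_mul, ← map_mul, mem_center_iff.1 h0c])
  have := normal_zp zc
  let q := QuotientGroup.mk' (zpowers (f h0))
  have qk : q.ker = zpowers (f h0) := QuotientGroup.ker_mk' _
  have qz : q (f h0) = 1 := qk.ge (mem_zpowers _)
  let j : Q0 →* _ := QuotientGroup.lift _ (q.comp f) fun x hx => by
    rcases mem_Z.1 hx with rfl | rfl
    exacts [one_mem _, qz]
  have hj : Function.Injective j := (injective_iff_map_eq_one _).2 fun x hx => by
    obtain ⟨x, rfl⟩ := QuotientGroup.mk_surjective x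
    obtain ⟨i, hi⟩ := qk.le (show q (f x) = 1 from hx)
    exact (QuotientGroup.eq_one_iff _).2 (fi ((map_zpow f _ _).trans hi) ▸ zpow_mem h0c i)
  have jr : j.range = map q T := by
    rw [← fr, ← MonoidHom.range_comp]
    exact le_antisymm (by
      rintro _ ⟨x, rfl⟩
      obtain ⟨x, rfl⟩ := QuotientGroup.mk_surjective x
      exact ⟨x, rfl⟩) (by rintro _ ⟨x, rfl⟩; exact ⟨x, rfl⟩)
  have s := (isSylowOf_top T).map q
  rw [map_top_of_surjective _ (QuotientGroup.mk'_surjective _), ← jr] at s
  obtain ⟨w, w1, hw⟩ := (Nat.card_eq_two_iff' (1 : center E)).1 hEx.2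
  have nE := (normal_subgroupOf_iff_le_normalizer hE).1 hEn
  have wz : (w : H) = f h0 := by
    obtain ⟨x, hx⟩ := fr.ge (hE w.1.2)
    rcases mem_Z.1 (show x ∈ _ from mem_center_iff.2 fun y => fi (by
      have m := nE (fr.le ⟨y, rfl⟩)
      have := hw ⟨⟨_, cmem m w.1.2⟩, mem_center_iff.2 fun a => Subtype.ext (by
        have := congrArg Subtype.val (mem_center_iff.1 w.2 ⟨_, cmem' m a.2⟩)
        push_cast at this ⊢
        calc _ = f y * ((f y)⁻¹ * a * f y * w) * (f y)⁻¹ := by group
          _ = _ := by rw [this]; group)⟩ fun e => w1 (Subtype.ext (Subtype.ext (by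
            simpa using congrArg (fun a : center E => (a : H)) e)))
      rw [map_mul, map_mul, hx, ← mul_inv_eq_iff_eq_mul]
      exact congrArg (fun a : center E => (a : H)) this)) with rfl | rfl
    · exact (w1 (Subtype.ext (Subtype.ext (hx.symm.trans (map_one f))))).elim
    · exact hx.symm
  have zE : q.ker ≤ E := qk.le.trans (zpowers_le.2 (wz ▸ w.1.2))
  have c := card_eq_card_map_mul q E
  rw [inf_eq_right.2 zE, hE7, qk, Nat.card_zpowers, orderOf_injective f fi,
    W.o2 (a := h0) (by decide +kernel) (by decide +kernel)] at c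
  have := model_uniq hj s (jr ▸ map_mono hE) (isMulCommutative_of_forall (by
    rintro _ ⟨a, ha, rfl⟩ _ ⟨b, hb, rfl⟩
    have m := hEx.1.2.2.le (commutator_mem_commutator (mem_top (⟨a, ha⟩ : E)) (mem_top ⟨b, hb⟩))
    rw [← commutatorElement_eq_one_iff_mul_comm, ← map_commutatorElement]
    by_cases e : (⟨_, m⟩ : center E) = 1
    · rw [show ⁅a, b⁆ = 1 from congrArg (fun a : center E => (a : H)) e, map_one]
    · rw [show ⁅a, b⁆ = w from congrArg (fun a : center E => (a : H)) (hw _ e), wz, qz])) (by omega)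
  rw [← comap_map_eq_self zE, this]
  exact (normal_A hj s (core_central q (QuotientGroup.mk'_surjective _) hO zc qk)).comap q

end Cfsg.Agent.S3170
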