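import Cfsg.Statements.S3171
import Cfsg.Agent.M4.M24

set_option autoImplicit false
open Cfsg

namespace Cfsg.Agent.S3171

open Subgroup FT H4 H5 GW L M4

/-- Let P be a Sylow 2-subgroup of the Mathieu group of degree 24 and S the quotient of P by its centre. Then the centre of every maximal subgroup of S has order at most 8; S has an elementary abelian subgroup of order 64; and S has only one abelian subgroup of order 64. -/
theorem result (P : Sylow 2 ↥Cfsg.M24) :
    (∀ M : Subgroup (↥(P : Subgroup ↥Cfsg.M24) ⧸ Subgroup.center ↥(P : Subgroup ↥Cfsg.M24)), IsCoatom M →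
        Nat.card ↥(Subgroup.center ↥M) ≤ 8) ∧
      (∃ A : Subgroup (↥(P : Subgroup ↥Cfsg.M24) ⧸ Subgroup.center ↥(P : Subgroup ↥Cfsg.M24)),
        Cfsg.IsElementaryAbelian 2 A ∧ Nat.card ↥A = 64) ∧
      ∀ A B : Subgroup (↥(P : Subgroup ↥Cfsg.M24) ⧸ Subgroup.center ↥(P : Subgroup ↥Cfsg.M24)),
        IsMulCommutative ↥A → Nat.card ↥A = 64 → IsMulCommutative ↥B → Nat.card ↥B = 64 → A = B := by
  obtain ⟨j, hj, e⟩ := exists_j P ⟨topEquiv⟩
  have c : Nat.card (↥(P : Subgroup ↥M24) ⧸ center ↥(P : Subgroup ↥M24)) = 2 ^ 9 := by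
    rw [← card_top, ← e, ← card_Q0]
    exact (Nat.card_congr (MonoidHom.ofInjective hj).toEquiv).symm
  have two : ∀ Y : Subgroup (↥(P : Subgroup ↥M24) ⧸ center ↥(P : Subgroup ↥M24)), IsPGroup 2 Y :=
    (IsPGroup.of_card c).to_subgroup
  have s : IsSylowOf 2 j.range ⊤ := ⟨le_top, two _, by rw [e, relIndex_self]; decide⟩
  obtain ⟨K, π, D, z, u, u', v, v', h⟩ := model hj s
  have n := e.ge.trans j_nor
  refine ⟨fun M hM => ?_, ⟨_, el_ea h.elA, h.c64⟩, fun A B a1 a2 b1 b2 =>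
    (h.uniq (le_top.trans n) a1 a2).trans (h.uniq (le_top.trans n) b1 b2).symm⟩
  generalize (j.comp i0).range = A at *
  obtain ⟨k, hk⟩ := IsPGroup.iff_card.1 (two M)
  have k8 : k < 9 := by
    have := card_lt_of_lt hM.1.lt_top
    rwa [card_top, c, hk, Nat.pow_lt_pow_iff_right (by norm_num)] at this
  obtain ⟨N, n1, n2⟩ := Sylow.exists_subgroup_card_pow_succ (c ▸ pow_dvd_pow 2 k8) hk
  rw [hM.2 N (lt_of_le_of_ne n2 fun e => by
    rw [e, n1, Nat.pow_right_inj (by norm_num)] at hk; omega), card_top, c,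
    pow_succ 2 k, ← hk] at n1
  have e1 := H6.card_mul_card_le M A
  have e2 := card_le_card_group (M ⊔ A)
  have e3 := card_le_of_le (inf_le_right : M ⊓ A ≤ A)
  rw [h.c64] at e1 e3
  rw [c] at e2
  have e4 : 32 ≤ Nat.card ↥(M ⊓ A) := by nlinarith
  obtain ⟨x, hx, x1, -⟩ := two_out (X := M) (Y := M ⊓ A) (by omega) 1
  obtain ⟨y, hy, y1, y2⟩ := two_out (X := M) (Y := M ⊓ A) (by omega) x
  have k : ∀ w ∈ (center M).map M.subtype, M ≤ Cen1 w := by
    rintro _ ⟨w, hw, rfl⟩ a ha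
    exact c1.2 (congrArg Subtype.val (mem_center_iff.1 hw ⟨a, ha⟩))
  rw [← card_map_of_injective M.subtype_injective]
  refine (card_le_of_le (K := A ⊓ Cen1 y ⊓ Cen1 x) fun w hw => ⟨⟨by_contra fun wA => ?_,
    c1s.1 (k w hw hy)⟩, c1s.1 (k w hw hx)⟩).trans (h.c8' (two ⊤) n trivial trivial (fun e => y1 ⟨hy, e⟩)
      (fun e => x1 ⟨hx, e⟩) fun e => y2 (mem_inf.2 ⟨mul_mem hy (inv_mem hx), e⟩)).1
  have l : M ⊓ A ≤ A ⊓ Cen1 w := le_inf inf_le_right (inf_le_left.trans (k w hw))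
  by_cases w2 : w * w ∈ A
  · have := (card_le_of_le l).trans (h.c16' (n trivial) wA w2).le
    omega
  · have := (card_le_of_le (le_inf (le_inf inf_le_right (inf_le_left.trans (k _ (mul_mem hw hw))))
      (l.trans inf_le_right))).trans
      (h.c8' (two ⊤) n trivial trivial w2 wA (by simpa using wA)).1
    omega

end Cfsg.Agent.S3171
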