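import Cfsg.Statements.S3177
import Cfsg.Agent.W.U3

set_option autoImplicit false
open Cfsg

namespace Cfsg.Agent.S3177

/-- Let n ≥ 3 and let G be a finite group whose Sylow 2-subgroups are isomorphic to those of PSU(3, 2^n), realised over the field with 4^n elements. Then either G is solvable of 2-length at most one, or the quotient of G by its largest normal subgroup of odd order has a normal subgroup of odd index isomorphic to PSU(3, 2^n). -/
theorem result {G : Type*} [Group G] [Finite G]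
    (n : ℕ) (hn : 3 ≤ n) {F : Type*} [Field F] [Fintype F] (hF : Fintype.card F = 4 ^ n)
    (S : Sylow 2 G) (P : Sylow 2 (Cfsg.PSU 3 F (2 ^ n)))
    (hS : Nonempty (↥(S : Subgroup G) ≃* ↥(P : Subgroup (Cfsg.PSU 3 F (2 ^ n))))) :
    (Group.IsSolvable G ∧ Cfsg.PLengthLE 2 1 G) ∨
      ∃ N : Subgroup (G ⧸ Cfsg.oddCore G), N.Normal ∧ Odd N.index ∧ Nonempty (↥N ≃* Cfsg.PSU 3 F (2 ^ n)) := by
  obtain ⟨e⟩ := hS
  obtain ⟨Z, h, c⟩ := W.exists_u3t hn hF P e
  obtain ⟨Z', h', c'⟩ := h.im W.qO_ker (H5.isSylowOf_top S)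
  have hT := (H5.isSylowOf_top S).im (f := W.qO G) le_rfl
  rw [H5.im_self W.qO_surj] at hT
  refine (h'.cases hT W.qO_core).imp
    (fun e => (W.PL.of_bar (FT.plength1_of_normal_sylow hT e.ge)).top) fun se => ?_
  obtain ⟨E, _, _, N, h1, h2, h3, h4⟩ :=
    h'.psu hT se ((H4.pPrimeCoreIn_top 2).symm.trans W.qO_core)
  rw [c', c] at h1 h4
  obtain ⟨f⟩ := h4
  obtain ⟨g⟩ := Ly.psu_congr (FiniteField.ringEquivOfCardEq (K := E) (K' := F)
    (by rw [h1, hF, ← pow_mul, mul_comm, pow_mul]; rfl)) 3 (2 ^ n)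
  exact ⟨N, h2, h3, ⟨f.trans g⟩⟩

end Cfsg.Agent.S3177
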