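import Cfsg.Statements.S3181
import Cfsg.Agent.W.CI4

set_option autoImplicit false
open Cfsg

namespace Cfsg.Agent.S3181

open Subgroup FT H4 GW W H5

/-- Structure of finite groups with central Sylow 2-intersections. Let G be a finite group in which the intersection of any two distinct Sylow 2-subgroups is contained in the centre of some Sylow 2-subgroup. Then one of the following holds: G is solvable of 2-length at most one; the Sylow 2-subgroups of G are abelian; G has normal subgroups N < M with N of odd order and M of odd index such that M/N is a central product of an abelian 2-group and a group isomorphic to SL(2, 5); or G has a normal subgroup M of odd index which is either the direct product of an abelian 2-group with a group isomorphic to a Suzuki group Sz(2^(2m+1)) for some m ≥ 1, or to PSU(3, q) or SU(3, q) for some q = 2^n ≥ 4, or a central product of an abelian 2-group with a perfect group L with nontrivial centre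 whose central quotient is isomorphic to the Suzuki group Sz(8). -/
theorem result {G : Type*} [Group G] [Finite G]
    (hCI : ∀ S T : Sylow 2 G, S ≠ T → ∃ U : Sylow 2 G,
      (S : Subgroup G) ⊓ (T : Subgroup G) ≤ (Subgroup.center ↥(U : Subgroup G)).map (U : Subgroup G).subtype) :
    (Group.IsSolvable G ∧ Cfsg.PLengthLE 2 1 G) ∨
    (∀ S : Sylow 2 G, IsMulCommutative ↥(S : Subgroup G)) ∨
    (∃ (N M : Subgroup G) (_ : N.Normal) (_ : M.Normal) (_ : (N.subgroupOf M).Normal), N < M ∧ Odd (Nat.card ↥N) ∧ Odd M.index ∧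
      ∃ A L : Subgroup (↥M ⧸ N.subgroupOf M), IsMulCommutative ↥A ∧ IsPGroup 2 ↥A ∧
        Nonempty (↥L ≃* Matrix.SpecialLinearGroup (Fin 2) (ZMod 5)) ∧ (∀ a ∈ A, ∀ l ∈ L, a * l = l * a) ∧ A ⊔ L = ⊤) ∨
    (∃ (M : Subgroup G), M.Normal ∧ Odd M.index ∧ ∃ A L : Subgroup G, IsMulCommutative ↥A ∧ IsPGroup 2 ↥A ∧
      ((Cfsg.IsInternalDirectProduct A L M ∧
          ((∃ (m : ℕ) (F : Type) (_ : Field F) (_ : Fintype F), 1 ≤ m ∧ Fintype.card F = 2 ^ (2 * m + 1) ∧
              Nonempty (↥L ≃* ↥(Cfsg.Lie.Sz F (2 ^ (m + 1))))) ∨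
            (∃ (n : ℕ) (F : Type) (_ : Field F) (_ : Fintype F), 2 ≤ n ∧ Fintype.card F = 4 ^ n ∧
              (Nonempty (↥L ≃* Cfsg.PSU 3 F (2 ^ n)) ∨ Nonempty (↥L ≃* ↥(Cfsg.SU 3 F (2 ^ n))))))) ∨
        (A ≤ M ∧ L ≤ M ∧ (∀ a ∈ A, ∀ l ∈ L, a * l = l * a) ∧ A ⊔ L = M ∧ Group.IsPerfect ↥L ∧
          Subgroup.center ↥L ≠ ⊥ ∧
          ∃ (F : Type) (_ : Field F) (_ : Fintype F), Fintype.card F = 8 ∧
            Nonempty (↥L ⧸ Subgroup.center ↥L ≃* ↥(Cfsg.Lie.Sz F 4))))) := by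
  obtain ⟨S, hS⟩ := exists_isSylowOf (q := 2) (⊤ : Subgroup G)
  by_cases na : S ≤ Cen S
  · exact Or.inr (Or.inl fun T => (⟨hS, isMulCommutative_of_forall fun a ha => cen.1 (na ha)⟩ :
      AS S ⊤).any T.isPGroup' le_top)
  by_cases hn : S ≤ Opp 2 ⊤
  · exact Or.inl (PL.top ((plength1_iff_le hS).2 hn))
  refine Or.inr (Or.inr ?_)
  have nH := le_normalizer_pGenIn 2 (⊤ : Subgroup G)
  have hg := pGenIn_pGenIn 2 (⊤ : Subgroup G)
  have oi : Odd (pGenIn 2 (⊤ : Subgroup G)).index :=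
    odd_iff_cop.2 (relIndex_top_right (pGenIn 2 (⊤ : Subgroup G)) ▸ coprime_relIndex_pGenIn 2 ⊤)
  have SH := le_pGenIn le_top hS.isPGroup
  generalize pGenIn 2 (⊤ : Subgroup G) = H at *
  have h := (ci_of hCI).of_le hS SH le_top
  replace hS := hS.of_le SH le_top
  replace hn : ¬ S ≤ Opp 2 H := fun e => hn (e.trans (Opp_le_of_normal le_top nH))
  have hc := h.B_le hS hn
  obtain ⟨X, _, _, N, f, D, t, s⟩ := h.sec (h.to hS na) hS hn
  have a := s.hyp.toA1
  obtain ⟨r, hr⟩ := a.exists_dist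
  have := s.simple hS hg hc
  have nc := s.na hS hg hc
  have : Group.IsPerfect X := ⟨H8.commutator_eq_top_of_simple nc⟩
  have eq : ∀ {Y : Type} [Group Y], BS.CQuot (BS.Fg (im f S) t) Y → Nonempty (X ≃* Y) :=
    fun c => (s.hyp.equiv_of_cquot c).elim fun e =>
      ⟨(topEquiv.symm.trans (MulEquiv.subgroupCongr (s.fg hS hg hc).symm)).trans e⟩
  have HN := normal_of_top_le_normalizer nH
  have BH : S ⊓ Opp 2 H ≤ H := inf_le_left.trans hS.le
  have B2 : IsPGroup 2 (S ⊓ Opp 2 H : Subgroup G) := hS.isPGroup.to_inf_left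
  have Bc : IsMulCommutative (S ⊓ Opp 2 H : Subgroup G) :=
    isMulCommutative_of_forall fun a ha b hb => cen.1 (hc ha) b hb.1
  have dp : H ≤ Cen (S ⊓ Opp 2 H : Subgroup G) → S ⊓ Opp 2 H ⊔ ⁅H, H⁆ = H →
      (∀ z : (⁅H, H⁆ : Subgroup G), f (inclusion (com_l le_normalizer) z) = 1 → z ^ 3 = 1) →
      IsInternalDirectProduct (S ⊓ Opp 2 H) ⁅H, H⁆ H := fun c e k =>
    ⟨BH, com_l le_normalizer, fun a ha l hl => (cen.1 (c (com_l le_normalizer hl)) a ha).symm,
      eq_bot_iff.2 fun z hz => two_odd B2 (by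
        rw [Nat.card_zpowers]
        exact (show Odd 3 by decide).of_dvd_nat (orderOf_dvd_of_pow_eq_one (congrArg Subtype.val
          (k ⟨z, hz.2⟩ ((s.one hS hz.1.1).2 hz.1))))) ▸ mem_inf.2 ⟨hz.1, mem_zpowers z⟩, e⟩
  rcases s.concl.tri r hr with c | ⟨c1, c2, -, m, F, _, _, hm, hF, hF', c⟩ |
    ⟨c1, c2, -, -, F, _, _, hF, c⟩
  · have := normal_subgroupOf_of_le_normalizer (lOo H)
    exact Or.inl ⟨Oo H, H, normal_of_top_le_normalizer (nH.trans (nOo H)), HN, this,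
      (Oo_le H).lt_of_ne fun e => hn (hS.le.trans (e.ge.trans (pPrimeCoreIn_le_Opp 2 H))),
      odd_Oo H, oi, s.sl hS hg hc na c⟩
  · obtain ⟨k1, k2, k3⟩ := s.main hS hg hc (s.ocen hS hg hc h c2 (by
      rw [c1, sq, ← hF', hF]
      exact Nat.mul_lt_mul_of_pos_left (Nat.pow_lt_pow_right (m := 2) one_lt_two (by omega))
        (by positivity)))
    obtain ⟨e⟩ := eq c
    obtain ⟨h1, h2⟩ := k2.res
    refine Or.inr ⟨H, HN, oi, _, ⁅H, H⁆, Bc, B2, ?_⟩
    by_cases i : Function.Injective (e.toMonoidHom.comp (f.comp (inclusion (com_l le_normalizer))))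
    · exact Or.inl ⟨dp k1 k3 fun z hz => by
        rw [(injective_iff_map_eq_one _).1 i z (e.map_eq_one_iff.2 hz), one_pow],
        Or.inl ⟨m, F, _, _, hm, hF, ⟨MulEquiv.ofBijective _ ⟨i, (h1.eqv e).surj⟩⟩⟩⟩
    obtain rfl : m = 1 := by_contra fun h => i (sz_inj hF (by omega) (h1.eqv e))
    have k : (e.toMonoidHom.comp (f.comp (inclusion (com_l le_normalizer)))).ker = center _ := by
      refine le_antisymm (fun z hz => mem_center_iff.2 ((h1.eqv e).cen z hz)) fun z hz =>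
        e.map_eq_one_iff.2 (mem_bot.1 (H8.center_eq_bot_of_simple nc ▸ mem_center_iff.2 fun g => ?_))
      obtain ⟨g, rfl⟩ := h1.surj g
      rw [← map_mul, ← map_mul, mem_center_iff.1 hz]
    exact Or.inr ⟨BH, com_l le_normalizer, fun a ha l hl =>
      (cen.1 (k1 (com_l le_normalizer hl)) a ha).symm, k3, h2,
      fun e1 => i ((MonoidHom.ker_eq_bot_iff _).1 (k.trans e1)), F, _, _, hF,
      ⟨(QuotientGroup.quotientMulEquivOfEq k.symm).trans
        (QuotientGroup.quotientKerEquivOfSurjective _ (h1.eqv e).surj)⟩⟩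
  obtain ⟨n, hn2, hq⟩ := a.card_Q0 s.hyp.a3
  obtain ⟨k1, k2, k3⟩ := s.main hS hg hc (s.ocen hS hg hc h c2 (by
    rw [c1, hq, pow_succ', ← pow_mul]
    exact Nat.mul_lt_mul_of_pos_left (Nat.pow_lt_pow_right (m := 2) one_lt_two (by omega))
      (by positivity)))
  rw [hq] at hF
  replace c := BS.cquot_psu_congr hq c
  replace hF : Fintype.card F = 4 ^ n := by rw [hF, ← pow_mul, mul_comm, pow_mul]; rfl
  obtain ⟨e⟩ := eq c
  obtain ⟨h1, h2⟩ := k2.res
  obtain ⟨u1, u2⟩ := U.cover hn2 hF (h1.eqv e)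
  exact Or.inr ⟨H, HN, oi, _, ⁅H, H⁆, Bc, B2, Or.inl ⟨dp k1 k3 fun z hz =>
    u1 z (e.map_eq_one_iff.2 hz), Or.inr ⟨n, F, _, _, hn2, hF,
      u2.imp_left fun i => ⟨MulEquiv.ofBijective _ ⟨i, (h1.eqv e).surj⟩⟩⟩⟩⟩

end Cfsg.Agent.S3181
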