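import Cfsg.Statements.S3182
import Cfsg.Agent.W.CI3

set_option autoImplicit false
open Cfsg

namespace Cfsg.Agent.S3182

/-- Simple groups with central Sylow 2-intersections. Let G be a non-abelian finite simple group in which the intersection of any two distinct Sylow 2-subgroups is contained in the centre of some Sylow 2-subgroup. Then G is isomorphic to PSL(2, q) for some prime power q ≡ 0, 3 or 5 mod 8; or G has abelian Sylow 2-subgroups and an involution t whose centralizer is a maximal subgroup of G and is the direct product of the subgroup generated by t with a subgroup E having a normal subgroup isomorphic to PSL(2, q), q odd and greater than 3, with trivial centralizer in E; or G is isomorphic to a Suzuki group Sz(2^(2m+1)) with m ≥ 1, or to PSU(3, 2^n) with n ≥ 2. -/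
theorem result {G : Type*} [Group G] [Finite G] [IsSimpleGroup G]
    (hG : ¬ IsMulCommutative G)
    (hCI : ∀ S T : Sylow 2 G, S ≠ T → ∃ U : Sylow 2 G,
      (S : Subgroup G) ⊓ (T : Subgroup G) ≤ (Subgroup.center ↥(U : Subgroup G)).map (U : Subgroup G).subtype) :
    (∃ (F : Type) (_ : Field F) (_ : Fintype F),
        (Fintype.card F % 8 = 0 ∨ Fintype.card F % 8 = 3 ∨ Fintype.card F % 8 = 5) ∧
        Nonempty (G ≃* Matrix.ProjectiveSpecialLinearGroup (Fin 2) F)) ∨
    ((∀ S : Sylow 2 G, IsMulCommutative ↥(S : Subgroup G)) ∧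
      ∃ t : G, orderOf t = 2 ∧ IsCoatom (Subgroup.centralizer ({t} : Set G)) ∧
        ∃ E : Subgroup G, Cfsg.IsInternalDirectProduct (Subgroup.zpowers t) E (Subgroup.centralizer ({t} : Set G)) ∧
          ∃ (F : Type) (_ : Field F) (_ : Fintype F), Odd (Fintype.card F) ∧ 3 < Fintype.card F ∧
            ∃ N : Subgroup ↥E, N.Normal ∧ Nonempty (↥N ≃* Matrix.ProjectiveSpecialLinearGroup (Fin 2) F) ∧
              Subgroup.centralizer (N : Set ↥E) = ⊥) ∨
    (∃ (m : ℕ) (F : Type) (_ : Field F) (_ : Fintype F), 1 ≤ m ∧ Fintype.card F = 2 ^ (2 * m + 1) ∧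
        Nonempty (G ≃* ↥(Cfsg.Lie.Sz F (2 ^ (m + 1))))) ∨
    (∃ (n : ℕ) (F : Type) (_ : Field F) (_ : Fintype F), 2 ≤ n ∧ Fintype.card F = 4 ^ n ∧
        Nonempty (G ≃* Cfsg.PSU 3 F (2 ^ n))) := by
  obtain ⟨x⟩ : Nonempty (Sylow 2 G) := inferInstance
  have hx := Hz.TT_syl x
  by_cases ab : Hz.TT x ≤ FT.Cen (Hz.TT x)
  · have as : W.AS (Hz.TT x) ⊤ := ⟨hx, H5.isMulCommutative_of_forall fun a ha b hb =>
      GW.cen.1 (ab ha) b hb⟩
    exact (W.wThm G _ hG as).imp_right fun e => Or.inl ⟨fun S => as.any S.isPGroup' le_top, e⟩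
  have ht := (W.ci_of hCI).ti hG hx ab
  rcases BS.bender_iff (BS.seSimple G _ (ht.se hG x)) with ⟨F, _, _, n, h1, h2, h3⟩ |
    ⟨F, _, _, n, h1, h2, h3⟩ | ⟨F, _, _, n, h1, h2, h3⟩
  · refine Or.inl ⟨F, inferInstance, inferInstance, Or.inl ?_, h3⟩
    rcases h1.eq_or_lt with rfl | e
    · obtain ⟨φ⟩ := h3
      have c := W.card_psl_even h2
      rw [← Nat.card_congr φ.toEquiv, h2] at c
      have c2 := x.card_eq_multiplicity
      rw [c, show (2 ^ 2 * ((2 ^ 2) ^ 2 - 1) : ℕ).factorization 2 = 2 by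
        rw [Nat.factorization_def _ Nat.prime_two]; decide +kernel] at c2
      have := IsPGroup.isMulCommutative_of_card_eq_prime_sq c2
      exact (ab fun a ha => GW.cen.2 fun b hb => H5.comm_of_isMulCommutative this ha hb).elim
    · obtain ⟨k, rfl⟩ := Nat.exists_eq_add_of_lt e
      rw [h2, show 2 + k + 1 = 3 + k by omega, pow_add]
      exact Nat.mul_mod_right 8 _
  · exact Or.inr (Or.inr (Or.inl ⟨n, F, _, _, h1, h2, h3⟩))
  · exact Or.inr (Or.inr (Or.inr ⟨n, F, _, _, h1, by
      rw [h2, ← pow_mul, mul_comm, pow_mul]; norm_num, h3⟩))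

end Cfsg.Agent.S3182
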