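import Cfsg.Statements.S3185
import Cfsg.Agent.Hz.S4

set_option autoImplicit false
open Cfsg

namespace Cfsg.Agent.S3185

/-- Call an involution of a finite group 2-central when it lies in the centre of some Sylow 2-subgroup, and call an intersection of two distinct Sylow 2-subgroups central when it is trivial or contains a 2-central involution. Let G be a non-abelian finite simple group in which every central intersection of two distinct Sylow 2-subgroups has 2-rank at most one (no Klein four-subgroup). Then G is isomorphic to PSL(2, 2^n) with n ≥ 2, to a Suzuki group over the field with 2^(2m+1) elements with m ≥ 1, to PSU(3, 2^n) with n ≥ 2, to PSL(2, q) with q ≡ 3 or 5 mod 8 and q > 5, or G is simple of order 175560 (the order of the first Janko group). -/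
theorem result {G : Type*} [Group G] [Finite G] [IsSimpleGroup G]
    (hG : ¬ IsMulCommutative G)
    (h : ∀ S T : Sylow 2 G, S ≠ T →
      ((S : Subgroup G) ⊓ (T : Subgroup G) = ⊥ ∨
        ∃ z ∈ (S : Subgroup G) ⊓ (T : Subgroup G), orderOf z = 2 ∧
          ∃ U : Sylow 2 G, z ∈ (Subgroup.center ↥(U : Subgroup G)).map (U : Subgroup G).subtype) →
      Cfsg.PRankLE 2 1 ↥((S : Subgroup G) ⊓ (T : Subgroup G))) :
    (∃ (n : ℕ) (F : Type) (_ : Field F) (_ : Fintype F), 2 ≤ n ∧ Fintype.card F = 2 ^ n ∧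
        Nonempty (G ≃* Matrix.ProjectiveSpecialLinearGroup (Fin 2) F)) ∨
    (∃ (m : ℕ) (F : Type) (_ : Field F) (_ : Fintype F), 1 ≤ m ∧ Fintype.card F = 2 ^ (2 * m + 1) ∧
        Nonempty (G ≃* ↥(Cfsg.Lie.Sz F (2 ^ (m + 1))))) ∨
    (∃ (n : ℕ) (F : Type) (_ : Field F) (_ : Fintype F), 2 ≤ n ∧ Fintype.card F = 4 ^ n ∧
        Nonempty (G ≃* Cfsg.PSU 3 F (2 ^ n))) ∨
    (∃ (F : Type) (_ : Field F) (_ : Fintype F), (Fintype.card F % 8 = 3 ∨ Fintype.card F % 8 = 5) ∧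
        5 < Fintype.card F ∧ Nonempty (G ≃* Matrix.ProjectiveSpecialLinearGroup (Fin 2) F)) ∨
    Cfsg.IsJ1 G := by
    have hc : Hz.HC G := fun x y z a ha b h1 hb hne hc ax bx ay by' => by
      by_contra e
      exact (BS.rk2_iff (M := Hz.TT x ⊓ Hz.TT y)).mp ⟨a, ⟨ax, ay⟩, b, ⟨bx, by'⟩, Hz.ZZ_inv ha h1, hb, hne, hc⟩
        (h x y e (Or.inr ⟨a, ⟨ax, ay⟩, (Hz.ZZ_inv ha h1).orderOf, z, ⟨a, ha.1⟩,
          Subgroup.mem_center_iff.mpr fun g => Subtype.ext (ha.2.2 g g.2).symm, rfl⟩))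
    obtain ⟨x⟩ : Nonempty (Sylow 2 G) := inferInstance
    by_cases ht : Hz.TI G
    · rcases BS.bender_iff (BS.seSimple G _ (ht.se hG x)) with ⟨F, _, _, n, h1, h2, h3⟩ |
        ⟨F, _, _, n, h1, h2, h3⟩ | ⟨F, _, _, n, h1, h2, h3⟩
      · exact Or.inl ⟨n, F, _, _, h1, h2, h3⟩
      · exact Or.inr (Or.inl ⟨n, F, _, _, h1, h2, h3⟩)
      · exact Or.inr (Or.inr (Or.inl ⟨n, F, _, _, h1, by
          rw [h2, ← pow_mul, mul_comm, pow_mul]; norm_num, h3⟩))
    obtain ⟨le, tr, h4 | ⟨h8, h5⟩⟩ := (hc.simple hG x).resolve_left ht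
    · obtain ⟨F, _, _, h1, h2, ⟨φ⟩⟩ := W.l2_four hG ⟨Hz.TT_syl x,
        H5.isMulCommutative_of_forall fun a ha => (le ha).2.2⟩ h4
      rcases h2.eq_or_lt with e | e
      · have := GW.card_psl (F := F) (by rw [← e]; decide)
        rw [← Nat.card_congr φ.toEquiv, ← e] at this
        obtain ⟨F, _, _, h1, h2⟩ := Hz.psl4_of_60 (X := G) (by omega)
        exact Or.inl ⟨2, F, _, _, le_rfl, h1, h2⟩
      · exact Or.inr (Or.inr (Or.inr (Or.inl ⟨F, _, _, h1, e, ⟨φ⟩⟩)))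
    · exact Or.inr (Or.inr (Or.inr (Or.inr ⟨inferInstance, Hz.j1_of hG x ht le tr h8 h5⟩)))

end Cfsg.Agent.S3185
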