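import Cfsg.Statements.S3186
import Cfsg.Agent.AI.Main
import Cfsg.Agent.AI.F4d
import Cfsg.Agent.AI.F4N2
import Cfsg.Agent.AI.TW2B
import Cfsg.Agent.AI.Fus4

set_option autoImplicit false
open Cfsg

namespace Cfsg.Agent.S3186

open Subgroup

/-- Let G be a non-abelian finite simple group in which the intersection of any two distinct Sylow 2-subgroups is abelian. Then a Sylow 2-subgroup of G is either dihedral (of order at least 4) or of nilpotency class at most two (its derived subgroup is central). -/
theorem result {G : Type*} [Group G] [Finite G] [IsSimpleGroup G]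
    (hG : ¬ IsMulCommutative G)
    (hA : ∀ S T : Sylow 2 G, S ≠ T → IsMulCommutative ↥((S : Subgroup G) ⊓ (T : Subgroup G))) (S : Sylow 2 G) :
    (∃ m : ℕ, 2 ≤ m ∧ Nonempty (↥(S : Subgroup G) ≃* DihedralGroup m)) ∨
      commutator ↥(S : Subgroup G) ≤ Subgroup.center ↥(S : Subgroup G) := by
  exact AI.final (AI.fourThm_of fun G _ _ S A R x c e h => c.nonab e h)
    (AI.twoThm AI.lcb AI.bn2 AI.ffThm AI.idx) AI.idx AI.fusThm hG hA S

end Cfsg.Agent.S3186
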