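import Cfsg.Statements.S3193
import Cfsg.Agent.I4.E

set_option autoImplicit false
open Cfsg

namespace Cfsg.Agent.S3193

/-- Simple groups of conjugate type rank four. For a finite group G consider the set of indices of the centralizers of the non-central elements of G. Then G is a non-abelian simple group for which this set has exactly four members if and only if G is isomorphic to PSL(2, q) for some odd prime power q ≥ 7. -/
theorem result (G : Type*) [Group G] [Finite G] :
    (IsSimpleGroup G ∧ ¬ IsMulCommutative G ∧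
        Set.ncard {m : ℕ | ∃ x : G, x ∉ Subgroup.center G ∧ m = (Subgroup.centralizer ({x} : Set G)).index} = 4) ↔
      ∃ (F : Type) (_ : Field F) (_ : Fintype F), Odd (Fintype.card F) ∧ 7 ≤ Fintype.card F ∧
        Nonempty (G ≃* Matrix.ProjectiveSpecialLinearGroup (Fin 2) F) := by
  refine ⟨fun ⟨_, h1, h2⟩ => (I4.cn_of_four h1 (IT.ts_eq h1 ▸ h2)).four h1 (IT.ts_eq h1 ▸ h2),
    fun ⟨F, _, _, h1, h2, ⟨e⟩⟩ => ?_⟩
  have h3 : (IT.TS' G).ncard = 4 := by rw [IT.ts_congr e]; exact I4.psl_four h1 h2
  have := I4.psl_simple' (F := F) (by omega)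
  exact ⟨e.isSimpleGroup, IT.not_comm_of_ts (Set.nonempty_of_ncard_ne_zero (by omega)), h3⟩

end Cfsg.Agent.S3193
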