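import Cfsg.Statements.S3198
import Cfsg.Agent.P3.C3
import Cfsg.Agent.P3.Iso

set_option autoImplicit false
open Cfsg

namespace Cfsg.Agent.S3198

/-- If G is a finite group whose Sylow 2-subgroups are isomorphic to those of PSL(3, 4), then G modulo its largest normal subgroup of odd order is isomorphic to a subgroup of PGL(3, 4) (the general linear group of dimension 3 over the field with 4 elements modulo its centre). -/
theorem result {G : Type*} [Group G] [Finite G]
    {F : Type*} [Field F] [Fintype F] (hF : Fintype.card F = 4) (S : Sylow 2 G)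
    (P : Sylow 2 (Matrix.ProjectiveSpecialLinearGroup (Fin 3) F))
    (hS : Nonempty (↥(S : Subgroup G) ≃* ↥(P : Subgroup (Matrix.ProjectiveSpecialLinearGroup (Fin 3) F)))) :
    ∃ f : G ⧸ Cfsg.oddCore G →* GL (Fin 3) F ⧸ Subgroup.center (GL (Fin 3) F), Function.Injective f := by
  obtain ⟨e⟩ := hS
  obtain ⟨j, h⟩ := P3.exists_SJ3 hF S P e
  obtain ⟨f, hf⟩ := P3.emb_all (h.quot le_top W.qO_surj W.qO_ker (GW.odd_Oo _))
    ((H4.pPrimeCoreIn_top 2).symm.trans W.qO_core)
  let r := FiniteField.ringEquivOfCardEq (H2.F4.card_F4.trans hF.symm)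
  refine ⟨(Matrix.ProjGenLinGroup.map r.toRingHom).comp f, fun a b e => hf ?_⟩
  have k : ∀ x : Matrix.ProjGenLinGroup (Fin 3) H2.F4, Matrix.ProjGenLinGroup.map r.symm.toRingHom
      (Matrix.ProjGenLinGroup.map r.toRingHom x) = x := fun x => by
    rw [← MonoidHom.comp_apply, ← Matrix.ProjGenLinGroup.map_comp,
      RingEquiv.symm_toRingHom_comp_toRingHom, Matrix.ProjGenLinGroup.map_id, MonoidHom.id_apply]
  rw [← k (f a), ← k (f b)]
  exact congrArg _ e

end Cfsg.Agent.S3198
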