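import Cfsg.Statements.S3219
import Cfsg.Agent.T2.Agl
import Cfsg.Agent.T2.Alt2

set_option autoImplicit false
open Cfsg

namespace Cfsg.Agent.S3219

/-- Let G be a finite doubly transitive permutation group on a set Ω in which the stabilizer of two points is isomorphic to the alternating group A₄. Then Ω has 6 points and G ≅ A₆, or Ω has 15 points and G ≅ A₇, or Ω has 16 points and G is isomorphic to the group of all affine transformations of the affine plane over the field with 4 elements, or G = C_G(J)O(G) for some involution J of G, where O(G) is the largest normal subgroup of G of odd order. -/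
theorem result {G : Type*} [Group G] [Finite G] {Ω : Type*} [Fintype Ω] [MulAction G Ω] [FaithfulSMul G Ω]
    (h2 : MulAction.IsMultiplyPretransitive G Ω 2) (a b : Ω) (hab : a ≠ b)
    (e : ↥(MulAction.stabilizer G a ⊓ MulAction.stabilizer G b) ≃* ↥(alternatingGroup (Fin 4))) :
    (Fintype.card Ω = 6 ∧ Nonempty (G ≃* ↥(alternatingGroup (Fin 6)))) ∨ (Fintype.card Ω = 15 ∧ Nonempty (G ≃* ↥(alternatingGroup (Fin 7)))) ∨
      (Fintype.card Ω = 16 ∧ ∃ (F : Type) (_ : Field F) (_ : Fintype F), Fintype.card F = 4 ∧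
        Nonempty (G ≃* ((Fin 2 → F) ≃ᵃ[F] (Fin 2 → F)))) ∨
      (∃ J : G, orderOf J = 2 ∧ Subgroup.centralizer ({J} : Set G) ⊔ Cfsg.oddCore G = ⊤) := by
  have := Fintype.ofFinite G
  have H := T2.hy_of T2.af4 (by decide) h2 hab e
  obtain ⟨τ, h1, h3⟩ := (H.kd a b hab).ex
  obtain ⟨σ, h⟩ := H.cf hab h1 h3
  rcases h.dich with ⟨z, z1, z2, z3⟩ | ⟨hd, h4, w, w1, w2, w3⟩
  · by_cases z0 : z ∈ T2.DD G Ω
    · exact (h.X2_false z1 z2 z3 z0 (Or.inl rfl)).elim
    rcases Nat.mod_two_eq_zero_or_one (Fintype.card Ω) with ho | ho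
    · obtain ⟨h5, h6⟩ := h.X1_agl z1 z2 z3 z0 ho
      exact Or.inr (Or.inr (Or.inl ⟨h5, H2.F4, _, _, H2.F4.card_F4, h6⟩))
    · exact Or.inr (Or.inr (Or.inr ⟨z, h.oz z1 z2 z3,
        T2.zs_top (h.oz z1 z2 z3) (h.X1_odd z1 z2 z3 z0 ho)⟩))
  · exact (h.Y3 w1 w2 w3 h4 rfl hd).imp_right Or.inl

end Cfsg.Agent.S3219
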