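import Cfsg.Statements.S3222
import Cfsg.Agent.H1.TwoS4b

set_option autoImplicit false
open Cfsg

namespace Cfsg.Agent.S3222

open scoped commutatorElement

theorem f1 : H1.TS4.z = ⁅H1.TS4.a, H1.TS4.b⁆ := by decide
theorem f2 : H1.TS4.z * H1.TS4.a = H1.TS4.a * H1.TS4.z := by decide
theorem f3 : H1.TS4.z * H1.TS4.b = H1.TS4.b * H1.TS4.z := by decide
theorem f4 : orderOf H1.TS4.z = 2 := H9.orderOf_two_of (by decide) (by decide)
theorem g1 : ∀ r : H1.TS4, H1.TS4.z * r = r * H1.TS4.z → r * H1.TS4.t = H1.TS4.t * r := by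
  decide +kernel
theorem g2 : ∀ r : H1.TS4, H1.TS4.z * r = r * H1.TS4.z → r * H1.TS4.z = H1.TS4.z * r := by
  decide +kernel
theorem g3 : ∀ r : H1.TS4, H1.TS4.z * r = r * H1.TS4.z →
    r * (H1.TS4.t * H1.TS4.z) = H1.TS4.t * H1.TS4.z * r := by
  decide +kernel
theorem n1 : H1.TS4.t ≠ H1.TS4.z := by decide
theorem n2 : H1.TS4.t ≠ H1.TS4.t * H1.TS4.z := by decide
theorem n3 : H1.TS4.z ≠ H1.TS4.t * H1.TS4.z := by decide

/-- Let G be a finite group of even order such that (1) some involution t lying in the centre of a Sylow 2-subgroup of G has C_G(t) ≅ Z₂ × S₄, and (2) every Sylow 2-subgroup S of G satisfies C_G(S′) = S, where S′ is the derived subgroup of S. Then G = C_G(t) if G is solvable, and G ≅ S₆ otherwise. -/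
theorem result {G : Type*} [Group G] [Finite G] (hev : Even (Nat.card G))
    (t : G) (ht : orderOf t = 2) (T : Sylow 2 G) (htT : t ∈ (T : Subgroup G)) (htc : ∀ s ∈ (T : Subgroup G), s * t = t * s)
    (e : ↥(Subgroup.centralizer ({t} : Set G)) ≃* (Multiplicative (ZMod 2) × Equiv.Perm (Fin 4)))
    (h2 : ∀ S : Sylow 2 G, Subgroup.centralizer ((⁅(S : Subgroup G), (S : Subgroup G)⁆ : Subgroup G) : Set G) = (S : Subgroup G)) :
    (Group.IsSolvable G → Subgroup.centralizer ({t} : Set G) = ⊤) ∧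
      (¬ Group.IsSolvable G → Nonempty (G ≃* Equiv.Perm (Fin 6))) := by
  classical
  have : Fact (Nat.Prime 2) := ⟨Nat.prime_two⟩
  let ι : H1.TS4 →* G := (H9.Cen t).subtype.comp e.symm.toMonoidHom
  have inj : Function.Injective ι := Subtype.val_injective.comp e.symm.injective
  have cen : ∀ g : G, g ∈ H9.Cen t ↔ ∃ p, ι p = g := fun g =>
    ⟨fun hg => ⟨e ⟨g, hg⟩, congrArg Subtype.val (e.symm_apply_apply ⟨g, hg⟩)⟩,
      fun ⟨p, hp⟩ => hp ▸ (e.symm p).2⟩
  have et : ι H1.TS4.t = t := by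
    obtain ⟨p, hp⟩ := (cen t).1 (H9.self_mem_Cen t)
    rcases H1.TS4.central p (fun q => inj (by
      rw [map_mul, map_mul, hp]; exact H9.mem_Cen.1 ((cen _).2 ⟨q, rfl⟩))) with rfl | rfl
    · rw [map_one] at hp
      exact absurd hp.symm (H9.ne_one_of_orderOf ht (by norm_num))
    · exact hp
  have hodd := H1.odd_index_of_central T htc
  obtain ⟨m, hm⟩ := hodd
  have hC : Nat.card (H9.Cen t) = 48 := (Nat.card_congr e.toEquiv).trans H1.TS4.card
  have hG := (H9.Cen t).index_mul_card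
  rw [hC, hm] at hG
  have hS0 : Nat.card (H9.Cen H1.TS4.z) = 16 := by
    rw [← H1.TS4.card_cen, ← Fintype.card_subtype, ← Nat.card_eq_fintype_card]
    exact H9.card_subtype_congr fun _ => H9.mem_Cen
  have hS1 : Nat.card ((H9.Cen H1.TS4.z).map ι) = 2 ^ 4 := by
    rw [Subgroup.card_map_of_injective inj, hS0]; norm_num
  obtain ⟨S, hS⟩ := H9.exists_sylow_eq (p := 2) (k := 4) (m := 3 * (2 * m + 1))
    ((H9.Cen H1.TS4.z).map ι) (by omega) (by omega) hS1
  have hcomm : ⁅(S : Subgroup G), (S : Subgroup G)⁆ ≤ Subgroup.zpowers (ι H1.TS4.z) := by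
    rw [hS, Subgroup.commutator_le]
    rintro _ ⟨p, hp, rfl⟩ _ ⟨q, hq, rfl⟩
    rw [← map_commutatorElement, commutatorElement_def]
    rcases H1.TS4.comm_cen p (H9.mem_Cen.1 hp) q (H9.mem_Cen.1 hq) with h | h <;> rw [h]
    · rw [map_one]; exact one_mem _
    · exact Subgroup.mem_zpowers _
  have hz : H9.Cen (ι H1.TS4.z) ≤ S := by
    rw [← h2 S, H9.Cen_eq_centralizer_zpowers]
    exact Subgroup.centralizer_le hcomm
  have hSt : (S : Subgroup G) ≤ H9.Cen t := by
    rw [hS]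
    rintro _ ⟨p, -, rfl⟩
    exact (cen _).2 ⟨p, rfl⟩
  have hzc : ι H1.TS4.z ∈ ⁅(S : Subgroup G), (S : Subgroup G)⁆ := by
    rw [f1, map_commutatorElement, hS]
    exact Subgroup.commutator_mem_commutator ⟨_, H9.mem_Cen.2 f2, rfl⟩ ⟨_, H9.mem_Cen.2 f3, rfl⟩
  have oz : orderOf (ι H1.TS4.z) = 2 := by
    rw [orderOf_injective ι inj, f4]
  have hN : ∀ n ∈ Subgroup.normalizer (S : Set G), n ∈ (S : Subgroup G) := fun n hn => by
    refine hz (H9.mem_Cen'.2 ?_)
    have h3 : n * ι H1.TS4.z * n⁻¹ ∈ ⁅(S : Subgroup G), (S : Subgroup G)⁆ := by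
      have h4 : (⁅(S : Subgroup G), (S : Subgroup G)⁆).map (MulAut.conj n).toMonoidHom ≤
          ⁅(S : Subgroup G), (S : Subgroup G)⁆ := by
        rw [Subgroup.map_commutator]
        have h5 : (S : Subgroup G).map (MulAut.conj n).toMonoidHom ≤ S := by
          rintro _ ⟨s, hs, rfl⟩
          exact (Subgroup.mem_normalizer_iff.1 hn s).1 hs
        exact Subgroup.commutator_mono h5 h5
      exact h4 ⟨_, hzc, rfl⟩
    rcases (H9.mem_zpowers_two oz).1 (hcomm h3) with h4 | h4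
    · have h5 := H9.orderOf_conj (ι H1.TS4.z) n
      rw [h4, oz, orderOf_one] at h5
      omega
    · exact h4
  have hZ : ∀ p : H1.TS4, (∀ q : H1.TS4, H1.TS4.z * q = q * H1.TS4.z → q * p = p * q) →
      ι p ∈ Subgroup.centralizer (S : Set G) := fun p hp => by
    intro s hs
    have hs' : s ∈ (H9.Cen H1.TS4.z).map ι := hS ▸ hs
    obtain ⟨q, hq, rfl⟩ := hs'
    rw [← map_mul, ← map_mul, hp q (H9.mem_Cen.1 hq)]
  have key : ∀ p q : H1.TS4, (∀ r : H1.TS4, H1.TS4.z * r = r * H1.TS4.z → r * p = p * r) →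
      (∀ r : H1.TS4, H1.TS4.z * r = r * H1.TS4.z → r * q = q * r) → p ≠ q →
      ¬ IsConj (ι p) (ι q) := fun p q hp hq hne hc => by
    obtain ⟨g, hg⟩ := isConj_iff.1 hc
    obtain ⟨n, hn, h3⟩ := S.conj_eq_normalizer_conj_of_mem_centralizer (ι p) g⁻¹ (hZ p hp)
      (by rw [inv_inv, hg]; exact hZ q hq)
    rw [inv_inv, hg, mul_assoc, ← hZ p hp n (hN n hn), inv_mul_cancel_left] at h3
    exact hne (inj h3).symm
  have H : H1.TSH ι := ⟨inj, by rw [et]; exact cen, by rw [et, hm]; exact ⟨m, rfl⟩,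
    by rw [et]; exact hz.trans hSt, key _ _ g1 g2 n1, key _ _ g1 g3 n2, key _ _ g2 g3 n3⟩
  rcases H.main with h | ⟨⟨f⟩⟩
  · rw [et] at h
    refine ⟨fun _ => h, fun hs => absurd (H8.isSolvable_of_card_eq_prime_pow_mul (p := 2) (q := 3)
      Nat.prime_two Nat.prime_three 4 1 ?_) hs⟩
    rw [h, Subgroup.card_top] at hC
    rw [hC]; norm_num
  · refine ⟨fun hs => ?_, fun _ => ⟨f⟩⟩
    exact absurd (Group.isSolvable_of_surjective (f := f.toMonoidHom) f.surjective)
      (Equiv.Perm.not_isSolvable _ (by simp; norm_num))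

end Cfsg.Agent.S3222
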