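import Cfsg.Statements.S3239
import Cfsg.Agent.J1.Wk3

set_option autoImplicit false
open Cfsg

namespace Cfsg.Agent.S3239

/-- Let t be an involution of a finite group G lying in the centre of a Sylow 2-subgroup of G, and suppose the weak closure of t in C_G(t) — the subgroup generated by all G-conjugates of t that commute with t — is isomorphic to Z₂ × A₅. Then the normal closure ⟨t^G⟩ of t in G is isomorphic to the first Janko group J₁. -/
theorem result {G : Type*} [Group G] [Finite G]
    (t : G) (ht : orderOf t = 2) (S : Sylow 2 G) (htS : t ∈ (S : Subgroup G)) (htc : ∀ s ∈ (S : Subgroup G), s * t = t * s)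
    (hW : Nonempty (↥(Subgroup.closure {x : G | ∃ g : G, x = g * t * g⁻¹ ∧ x * t = t * x}) ≃*
      (Multiplicative (ZMod 2) × ↥(alternatingGroup (Fin 5))))) :
    Cfsg.Spor.IsoJ1 ↥(Subgroup.normalClosure ({t} : Set G)) := by
  have := Fintype.ofFinite G
  obtain ⟨e⟩ := hW
  let Φ : JK.KK5 →* G := (Subgroup.subtype _).comp e.symm.toMonoidHom
  have inj : Function.Injective Φ := (Subgroup.subtype_injective _).comp e.symm.injective
  have mem : ∀ d, IsConj t d → d * t = t * d → ∃ k, Φ k = d := fun d h1 h2 => by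
    obtain ⟨g, rfl⟩ := isConj_iff.mp h1
    exact ⟨e ⟨_, Subgroup.subset_closure ⟨g, rfl, h2⟩⟩, by simp [Φ]⟩
  have gen : ∀ H : Subgroup G, (∀ d, IsConj t d → d * t = t * d → d ∈ H) → ∀ k, Φ k ∈ H :=
    fun H hH k => (Subgroup.closure_le H).mpr (by
      rintro _ ⟨g, rfl, h2⟩
      exact hH _ (isConj_iff.mpr ⟨g, rfl⟩) h2) (e.symm k).2
  refine J1.WC.iso (Φ := Φ) ⟨inj, ?_, mem, gen, ?_⟩
  · obtain ⟨k, hk⟩ := mem t (IsConj.refl t) rfl
    have c : ∀ l, k * l = l * k := fun l => inj (by
      rw [map_mul, map_mul, hk]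
      exact (Subgroup.mem_centralizer_singleton_iff.mp (gen (Subgroup.centralizer {t})
        (fun d _ h => Subgroup.mem_centralizer_singleton_iff.mpr h) l)).symm)
    rcases J1.K_center k (c _) (c _) with rfl | rfl
    · rw [← hk, map_one, orderOf_one] at ht; omega
    · exact hk
  · rw [← Nat.not_even_iff_odd, even_iff_two_dvd]
    exact fun h => S.not_dvd_index (h.trans (Subgroup.index_dvd_of_le fun s hs =>
      Subgroup.mem_centralizer_singleton_iff.mpr (htc s hs)))

end Cfsg.Agent.S3239
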