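import Cfsg.Statements.S3241
import Cfsg.Agent.HY.J
import Cfsg.Agent.H9.Tools3

set_option autoImplicit false
open Cfsg

namespace Cfsg.Agent.S3241

open Subgroup HY H9.HC

/-- Let m > 1 be odd, F the field with 3^m elements, and 𝒞 the centralizer in PSp₄(3^m) = PSp₄(F) of an element of order 3 lying in the centre of a Sylow 3-subgroup. Let G be a finite group with an element α of order 3 such that C_G(α) ≅ 𝒞, such that C_G(z) = C_G(α) for every non-identity element z of the centre of C_G(α), and such that the elements of order 3 of G lying in the centre of some Sylow 3-subgroup of G are not all conjugate in G. Then C_G(α) is normal in G, or G is isomorphic to PSp₄(3^m). -/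
theorem result {G : Type*} [Group G] [Finite G]
    {F : Type*} [Field F] [Fintype F] (m : ℕ) (hm : Odd m) (hm1 : 1 < m) (hF : Fintype.card F = 3 ^ m)
    (U : Sylow 3 (Cfsg.PSp 2 F)) (x : Cfsg.PSp 2 F) (hx : orderOf x = 3) (hxU : x ∈ (U : Subgroup (Cfsg.PSp 2 F)))
    (hxc : ∀ u ∈ (U : Subgroup (Cfsg.PSp 2 F)), u * x = x * u)
    (α : G) (hα : orderOf α = 3) (e : ↥(Subgroup.centralizer ({α} : Set G)) ≃* ↥(Subgroup.centralizer ({x} : Set (Cfsg.PSp 2 F))))
    (hb : ∀ z : G, z ≠ 1 → z ∈ Subgroup.centralizer ({α} : Set G) → (∀ c ∈ Subgroup.centralizer ({α} : Set G), c * z = z * c) →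
      Subgroup.centralizer ({z} : Set G) = Subgroup.centralizer ({α} : Set G))
    (hc : ∃ (P Q : Sylow 3 G) (a b : G), orderOf a = 3 ∧ orderOf b = 3 ∧ a ∈ (P : Subgroup G) ∧ b ∈ (Q : Subgroup G) ∧
      (∀ p ∈ (P : Subgroup G), p * a = a * p) ∧ (∀ q ∈ (Q : Subgroup G), q * b = b * q) ∧ ¬ IsConj a b) :
    (Subgroup.centralizer ({α} : Set G)).Normal ∨ Nonempty (G ≃* Cfsg.PSp 2 F) := by
  classical
  have hF' : Nat.card F = 3 ^ m := by rw [Nat.card_eq_fintype_card, hF]
  have h3 : (3 : F) = 0 := by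
    have := FiniteField.cast_card_eq_zero F
    rw [hF, Nat.cast_pow] at this
    exact_mod_cast pow_eq_zero_iff (by omega) |>.1 this
  have hx1 : x ≠ 1 := H9.ne_one_of_orderOf hx (by norm_num)
  obtain ⟨e0⟩ := H9.exists_hc hF' hm1.le (two_ne h3) hx1 U hxU hxc
  let ι : H9.HC F →* G := (centralizer ({α} : Set G)).subtype.comp (e0.trans e.symm).toMonoidHom
  have hι : Function.Injective ι := Subtype.val_injective.comp (e0.trans e.symm).injective
  have hr : ι.range = centralizer ({α} : Set G) := by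
    apply le_antisymm
    · rintro _ ⟨a, rfl⟩
      exact ((e0.trans e.symm) a).2
    · intro g hg
      obtain ⟨a, ha⟩ := (e0.trans e.symm).surjective ⟨g, hg⟩
      exact ⟨a, congrArg Subtype.val ha⟩
  have s : S0 ι := ⟨h3, hι, fun z hz => by
    rw [hr]
    refine hb _ (fun h => zz_ne hz (hι (h.trans (map_one ι).symm))) (hr ▸ ⟨_, rfl⟩) fun c hc => ?_
    rw [← hr] at hc
    obtain ⟨a, rfl⟩ := hc
    rw [← map_mul, ← map_mul, zz_comm]⟩
  rw [← hr]
  obtain ⟨P, Q, a, b, oa, ob, -, -, ha, hb', hab⟩ := hc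
  obtain ⟨g, z, hz, rfl⟩ := s.cen3 P (H9.ne_one_of_orderOf oa (by norm_num)) ha
  obtain ⟨g', z', hz', rfl⟩ := s.cen3 Q (H9.ne_one_of_orderOf ob (by norm_num)) hb'
  exact main41 s hm hm1 hF' ⟨z, z', hz, hz', fun k e => hab (isConj_iff.2 ⟨g' * k * g⁻¹, by
    rw [← e]; group⟩)⟩

end Cfsg.Agent.S3241
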