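import Cfsg.Statements.S3243
import Cfsg.Agent.Z6.L2
import Cfsg.Agent.Z6.L3

set_option autoImplicit false
open Cfsg

namespace Cfsg.Agent.S3243

/-- Let G be a finite non-abelian simple group with a single conjugacy class of involutions containing an element t of order 6 with C_G(t) = ⟨t⟩. Then G is isomorphic to L₂(11), L₂(13), L₃(3), the Mathieu group M₁₁, or the Janko group J₁. -/
theorem result {G : Type*} [Group G] [Finite G] [IsSimpleGroup G]
    (hG : ¬ IsMulCommutative G) (h1 : ∀ x y : G, orderOf x = 2 → orderOf y = 2 → IsConj x y)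
    (t : G) (ht : orderOf t = 6) (hC : Subgroup.centralizer ({t} : Set G) = Subgroup.zpowers t) :
    (∃ (F : Type) (_ : Field F) (_ : Fintype F), (Fintype.card F = 11 ∨ Fintype.card F = 13) ∧
        Nonempty (G ≃* Matrix.ProjectiveSpecialLinearGroup (Fin 2) F)) ∨
      (∃ (F : Type) (_ : Field F) (_ : Fintype F), Fintype.card F = 3 ∧ Nonempty (G ≃* Matrix.ProjectiveSpecialLinearGroup (Fin 3) F)) ∨
      Cfsg.Spor.IsoM11 G ∨ Cfsg.Spor.IsoJ1 G := by
  have h := Z6.hy_of h1 ht hC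
  rcases h.split hG with ⟨s, h'⟩ | h'
  swap
  · exact Or.inr (Or.inr (Or.inr h'))
  obtain ⟨S, hS⟩ := H5.exists_isSylowOf (q := 2) (FT.Cen1 (t ^ 3))
  by_cases h4 : Nat.card S = 4
  · exact Or.inl (h.l2 hG hS h4)
  obtain ⟨ψ, g⟩ := h'.exists_GS hG hS h4
  have := Fintype.ofFinite G
  obtain ⟨e, hc | hc⟩ := g.main hG
  · have hM : Cfsg.Spor.M11 = H2.M11.KK := by
      have : Cfsg.Spor.squareDodecad = H2.fs H2.dodD := by decide +kernel
      rw [Cfsg.Spor.M11, Cfsg.Spor.M12, this]; rfl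
    refine Or.inr (Or.inr (Or.inl ?_))
    rw [Cfsg.Spor.IsoM11, hM]
    exact H2.M11.iso hc
  · exact Or.inr (Or.inl ⟨ZMod 3, inferInstance, inferInstance, ZMod.card 3, (e ▸ g).l3 h hc⟩)

end Cfsg.Agent.S3243
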