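import Cfsg.Statements.S3254
import Cfsg.Agent.N3.E

set_option autoImplicit false
open Cfsg

namespace Cfsg.Agent.S3254

open Subgroup

/-- Let p > 3 be a prime and G a finite non-abelian simple group acting faithfully and transitively on a set Ω of 3p points, such that the normalizer of a Sylow p-subgroup of G has order 2p. If the action is primitive then p = 5 and G ≅ A₆; if it is imprimitive then p = 2^m + 1 for some m and G ≅ PSL₂(2^m). -/
theorem result {G : Type*} [Group G] [Finite G] [IsSimpleGroup G] (hG : ¬ IsMulCommutative G)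
    (p : ℕ) (hp : p.Prime) (hp3 : 3 < p) {Ω : Type*} [Fintype Ω] [MulAction G Ω] [FaithfulSMul G Ω]
    (htr : MulAction.IsPretransitive G Ω) (hΩ : Fintype.card Ω = 3 * p)
    (P : Sylow p G) (hN : Nat.card ↥(Subgroup.normalizer ((P : Subgroup G) : Set G)) = 2 * p) :
    (MulAction.IsPreprimitive G Ω → p = 5 ∧ Nonempty (G ≃* ↥(alternatingGroup (Fin 6)))) ∧
      (¬ MulAction.IsPreprimitive G Ω → ∃ (F : Type) (_ : Field F) (_ : Fintype F) (m : ℕ), Fintype.card F = 2 ^ m ∧ p = 2 ^ m + 1 ∧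
        Nonempty (G ≃* Matrix.ProjectiveSpecialLinearGroup (Fin 2) F)) := by
  have := Fact.mk hp
  have := Fintype.ofFinite G
  obtain ⟨x, t, h⟩ := N3.exists_hy hG hp3 hΩ P hN
  rcases h.dich hG with ⟨M, hM⟩ | ⟨S, z, u, α, β, γ, n⟩
  · obtain ⟨h1, h2⟩ := h.se hG hM
    exact ⟨fun e => absurd e h1, fun _ => h2⟩
  · obtain ⟨h1, h2⟩ := n.a6 hG h
    exact ⟨fun _ => h2, fun e => absurd h1 e⟩

end Cfsg.Agent.S3254
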