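import Cfsg.Statements.S3258
import Cfsg.Agent.Ly.Pi2

set_option autoImplicit false
open Cfsg

namespace Cfsg.Agent.S3258

open Subgroup

/-- Let π be a set of primes containing 2 and G a finite group all of whose π-subgroups (subgroups whose order is divisible only by primes in π) have a normal Sylow 2-subgroup. Then the π'-elements of G (elements whose order is divisible by no prime in π) form a subgroup if and only if N_G(H)/C_G(H) is a π-group for every nontrivial π-subgroup H of G. -/
theorem result {G : Type*} [Group G] [Finite G] (π : Set ℕ) (h2 : 2 ∈ π)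
    (hcl : ∀ H : Subgroup G, (∀ p : ℕ, p.Prime → p ∣ Nat.card ↥H → p ∈ π) → ∀ P : Sylow 2 ↥H, (P : Subgroup ↥H).Normal) :
    (∃ K : Subgroup G, ∀ x : G, x ∈ K ↔ ∀ p : ℕ, p.Prime → p ∣ orderOf x → p ∉ π) ↔
      (∀ H : Subgroup G, H ≠ ⊥ → (∀ p : ℕ, p.Prime → p ∣ Nat.card ↥H → p ∈ π) →
        ∀ p : ℕ, p.Prime → p ∣ (Subgroup.centralizer (H : Set G)).relIndex (Subgroup.normalizer (H : Set G)) → p ∈ π) := by
  constructor
  · rintro ⟨K, hK⟩ H - hH p hp hd
    by_contra c
    have := Fact.mk hp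
    have k : FT.PiG πᶜ K := FT.piG_iff_forall.mpr fun x hx => (hK x).mp hx
    have n : K.Normal := ⟨fun x hx g => (hK _).mpr (by
      rw [← MulAut.conj_apply, MulEquiv.orderOf_eq]; exact (hK x).mp hx)⟩
    obtain ⟨P, hP⟩ := H5.exists_isSylowOf p (FT.Nor H)
    exact hP.not_dvd (hd.trans (relIndex_dvd_of_le_left _ (GW.cen_of_inf_bot (P := K) (Q := H)
      (fun x hx => (hK x).mpr ((FT.piG_of_isPGroup (π := πᶜ) hP.isPGroup c).elt hx)) le_rfl hP.le
      le_normalizer_of_normal (inf_comm H K ▸ FT.PiG.inf_eq_bot hH k))))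
  · intro h
    have hy : Ly.Hy π G := by
      refine ⟨h2, fun H P hH hP => ?_, fun H hH x hx hx' => ?_⟩
      · obtain ⟨S, rfl⟩ := hP.exists_sylow
        have := hcl H hH S
        exact (map_subtype_le_map_subtype.mpr (normalizer_eq_top (S : Subgroup H)).ge).trans
          (le_normalizer_map _) |> (H.range_subtype.symm.trans (MonoidHom.range_eq_map _)).trans_le
      by_cases e : H = ⊥
      · subst e; exact GW.cen.mpr fun y hy => by simp [mem_bot.mp hy]
      have := normal_subgroupOf_centralizer_normalizer (H : Set G)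
      obtain ⟨j, hj⟩ := exists_pow_eq_self_of_coprime (FT.PiNum.coprime (h H e hH) hx')
      exact hj ▸ pow_mem (pow_index_mem (H := (FT.Cen H).subgroupOf (FT.Nor H)) ⟨x, hx⟩) j
    exact ⟨piCore πᶜ G, fun x => ⟨(FT.piG_piCore _).elt, Ly.Hy.nc _ G rfl hy x⟩⟩

end Cfsg.Agent.S3258
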