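import Cfsg.Statements.S3262
import Cfsg.Agent.T2.TF
import Cfsg.Agent.T2.Alt2
import Cfsg.Agent.H2.M11b

set_option autoImplicit false
open Cfsg

namespace Cfsg.Agent.S3262

/-- Let G be a finite doubly transitive permutation group on a set Ω with no regular normal subgroup, in which the stabilizer of two points is isomorphic to the alternating group A₅. Then either Ω has 7 points and G ≅ A₇, or Ω has 12 points and G is isomorphic to the Mathieu group M₁₁. -/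
theorem result {G : Type*} [Group G] [Finite G] {Ω : Type*} [Fintype Ω] [MulAction G Ω] [FaithfulSMul G Ω]
    (h2 : MulAction.IsMultiplyPretransitive G Ω 2) (a b : Ω) (hab : a ≠ b)
    (hnr : ∀ N : Subgroup G, N.Normal → MulAction.IsPretransitive ↥N Ω → (∀ x : Ω, MulAction.stabilizer ↥N x = ⊥) → False)
    (e : ↥(MulAction.stabilizer G a ⊓ MulAction.stabilizer G b) ≃* ↥(alternatingGroup (Fin 5))) :
    (Fintype.card Ω = 7 ∧ Nonempty (G ≃* ↥(alternatingGroup (Fin 7)))) ∨ (Fintype.card Ω = 12 ∧ Cfsg.Spor.IsoM11 G) := by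
  have := Fintype.ofFinite G
  have H := T2.hy_of T2.af5 (by decide) h2 hab e
  obtain ⟨τ, h1, h3⟩ := (H.kd a b hab).ex
  obtain ⟨σ, h⟩ := H.cf hab h1 h3
  have h0 : ∀ N : Subgroup G, ¬ T2.RG Ω N := fun N hN => hnr N hN.nor
    ⟨fun x y => let ⟨n, hn, e⟩ := hN.tr x y; ⟨⟨n, hn⟩, e⟩⟩
    fun x => eq_bot_iff.2 fun n hn => Subtype.ext (hN.free n.1 n.2 x hn)
  rcases h.dich with ⟨z, z1, z2, z3⟩ | ⟨hd, h4, w, w1, w2, w3⟩
  · exfalso
    by_cases z0 : z ∈ T2.DD G Ω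
    · exact h.X2_false z1 z2 z3 z0 (Or.inr rfl)
    rcases Nat.mod_two_eq_zero_or_one (Fintype.card Ω) with ho | ho
    · obtain ⟨N, hN⟩ := h.X1_even z1 z2 z3 z0 ho
      exact h0 N hN
    · have h5 := T2.zs_top (h.oz z1 z2 z3) (h.X1_odd z1 z2 z3 z0 ho)
      rw [Cfsg.oddCore, T2.no_RG h.tt h0, sup_bot_eq] at h5
      obtain ⟨N, -, hN⟩ := T2.ex_RG h.tt (GW.normal_zp fun g => GW.c1.1 (h5.ge trivial))
        (GW.solv_zp z) (Subgroup.zpowers_ne_bot.2 (GW.ine (h.oz z1 z2 z3)))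
      exact h0 N hN
  · refine (h.Y15 w1 w2 w3 h4 rfl hd h0 e.isSimpleGroup).imp_right fun ⟨h5, h6, h7⟩ => ⟨h5, ?_⟩
    have hM : Cfsg.Spor.M11 = H2.M11.KK := by
      have : Cfsg.Spor.squareDodecad = H2.fs H2.dodD := by decide +kernel
      rw [Cfsg.Spor.M11, Cfsg.Spor.M12, this]; rfl
    rw [Cfsg.Spor.IsoM11, hM]
    exact H2.M11.iso h7

end Cfsg.Agent.S3262
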