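import Cfsg.Statements.S3270
import Cfsg.Agent.TQ.Main1
import Cfsg.Agent.TQ.Big2
import Cfsg.Agent.TQ.B2

set_option autoImplicit false
open Cfsg

namespace Cfsg.Agent.S3270

/-- A finite simple group whose order has the form 2^a · 3 · 5 · q^b with q a prime (q may be 2, 3 or 5, and b may be 0) is isomorphic to PSL(2, r) for r ∈ {5, 9, 11, 16, 31} or to PSU(4, 2). -/
theorem result {G : Type*} [Group G] [Finite G] [IsSimpleGroup G]
    (a b q : ℕ) (hq : q.Prime) (hG : Nat.card G = 2 ^ a * 3 * 5 * q ^ b) :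
    (∃ (F : Type) (_ : Field F) (_ : Fintype F),
        (Fintype.card F = 5 ∨ Fintype.card F = 9 ∨ Fintype.card F = 11 ∨ Fintype.card F = 16 ∨ Fintype.card F = 31) ∧
          Nonempty (G ≃* Matrix.ProjectiveSpecialLinearGroup (Fin 2) F)) ∨
      (∃ (F : Type) (_ : Field F) (_ : Fintype F), Fintype.card F = 4 ∧ Nonempty (G ≃* Cfsg.PSU 4 F 2)) := by
  have := Fintype.ofFinite G
  exact TQ.main1 (fun _ _ _ h => TQ.B2.bound h) hq hG fun q5 => TQ.big hq q5 hG

end Cfsg.Agent.S3270
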