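import Cfsg.Statements.S3302
import Cfsg.Agent.HY.C
import Cfsg.Agent.H9.Tools3

set_option autoImplicit false
open Cfsg

namespace Cfsg.Agent.S3302

open Subgroup FT H4 GW HY H9.HC
open H5 (mem_of_eq)

/-- Let m > 1 be odd, F the field with 3^m elements, and 𝒞 the centralizer in PSp₄(F) of an element of order 3 lying in the centre of a Sylow 3-subgroup. Let G be a finite group with an element α of order 3 such that C_G(α) ≅ 𝒞 and C_G(z) = C_G(α) for every non-identity element z of the centre of C_G(α). Let P be a Sylow 3-subgroup of G and M ≤ P an elementary abelian subgroup of order 3^{3m}, and suppose that N_G(M) normalizes P (so that P is a normal Sylow 3-subgroup of N_G(M)). Then G = C_G(Z)·N_G(M), where Z is the centre of C_G(α): every element of G is a product of an element centralizing Z and an element of N_G(M); and C_G(α) is a normal subgroup of G. -/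
theorem result {G : Type*} [Group G] [Finite G] {F : Type*} [Field F] [Fintype F] (m : ℕ) (hm : Odd m) (hm1 : 1 < m) (hF : Fintype.card F = 3 ^ m) (U : Sylow 3 (Cfsg.PSp 2 F)) (x : Cfsg.PSp 2 F) (hx : orderOf x = 3) (hxU : x ∈ (U : Subgroup (Cfsg.PSp 2 F))) (hxc : ∀ u ∈ (U : Subgroup (Cfsg.PSp 2 F)), u * x = x * u) (α : G) (hα : orderOf α = 3) (e : ↥(Subgroup.centralizer ({α} : Set G)) ≃* ↥(Subgroup.centralizer ({x} : Set (Cfsg.PSp 2 F)))) (hb : ∀ z : G, z ≠ 1 → z ∈ Subgroup.centralizer ({α} : Set G) → (∀ c ∈ Subgroup.centralizer ({α} : Set G), c * z = z * c) → Subgroup.centralizer ({z} : Set G) = Subgroup.centralizer ({α} : Set G)) (P : Sylow 3 G) (M : Subgroup G) (hMP : M ≤ (P : Subgroup G)) (hMel : Cfsg.IsElementaryAbelian 3 M) (hMcard : Nat.card M = 3 ^ (3 * m)) (hB : Subgroup.normalizer (M : Set G) ≤ Subgroup.normalizer ((P : Subgroup G) : Set G)) : (∀ g : G, ∃ c k : G, c ∈ Subgroup.centralizer {z : G | z ∈ Subgroup.centralizer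 ({α} : Set G) ∧ ∀ c' ∈ Subgroup.centralizer ({α} : Set G), c' * z = z * c'} ∧ k ∈ Subgroup.normalizer (M : Set G) ∧ g = c * k) ∧ (Subgroup.centralizer ({α} : Set G)).Normal := by
  classical
  have hF' : Nat.card F = 3 ^ m := by rw [Nat.card_eq_fintype_card, hF]
  have h3 : (3 : F) = 0 := by
    have := FiniteField.cast_card_eq_zero F
    rw [hF, Nat.cast_pow] at this
    exact_mod_cast pow_eq_zero_iff (by omega) |>.1 this
  have hx1 : x ≠ 1 := H9.ne_one_of_orderOf hx (by norm_num)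
  obtain ⟨e0⟩ := H9.exists_hc hF' hm1.le (two_ne h3) hx1 U hxU hxc
  let ι : H9.HC F →* G := (centralizer ({α} : Set G)).subtype.comp (e0.trans e.symm).toMonoidHom
  have hι : Function.Injective ι := Subtype.val_injective.comp (e0.trans e.symm).injective
  have hr : ι.range = centralizer ({α} : Set G) := by
    apply le_antisymm
    · rintro _ ⟨a, rfl⟩
      exact ((e0.trans e.symm) a).2
    · intro g hg
      obtain ⟨a, ha⟩ := (e0.trans e.symm).surjective ⟨g, hg⟩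
      exact ⟨a, congrArg Subtype.val ha⟩
  have s : S0 ι := ⟨h3, hι, fun z hz => by
    rw [hr]
    refine hb _ (fun h => zz_ne hz (hι (h.trans (map_one ι).symm))) (hr ▸ ⟨_, rfl⟩) fun c hc => ?_
    rw [← hr] at hc
    obtain ⟨a, rfl⟩ := hc
    rw [← map_mul, ← map_mul, zz_comm]⟩
  rw [← hr]
  have Q3 : IsPGroup 3 ((Q0 F).map ι) := (pg_of_cube fun a => Q0_cube h3).map ι
  have hz : ι (zz 1) ∈ (Q0 F).map ι := s.mm.2 (Z0_le_Q0 (zz_mem 1))
  obtain ⟨g, -, hg⟩ := (H5.isSylowOf_top P).exists_conj_le Q3 le_top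
  have hg' : ∀ w ∈ (Q0 F).map ι, g * w * g⁻¹ ∈ (P : Subgroup G) := fun w hw =>
    hg (mem_map_of_mem _ hw)
  have cz : ∀ c ∈ (P : Subgroup G), c ∈ Cen (P : Subgroup G) → ∃ z, ι (zz z) = g⁻¹ * c * g :=
    fun c h1 h2 => by
    have k : ∀ w ∈ (Q0 F).map ι, g⁻¹ * c * g * w = w * (g⁻¹ * c * g) := fun w hw => by
      calc _ = g⁻¹ * (c * (g * w * g⁻¹)) * g := by group
        _ = _ := by rw [cen.1 h2 _ (hg' w hw)]; group
    exact s.inZ (s.of_cz one_ne_zero (k _ hz)) k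
  obtain ⟨c, c1, c2, -, c3, -⟩ := U6.exists_fixed P.2 P.2 le_normalizer
    fun h => s.z1 (conj_eq_one_iff.1 (mem_bot.1 (h ▸ hg' _ hz)))
  obtain ⟨z, ez⟩ := cz c c1 c3
  have z0 : z ≠ 0 := fun h => c2 (by
    rw [h, zz_zero, map_one, eq_comm, mul_assoc, inv_mul_eq_one] at ez
    simpa using ez)
  have PC : ∀ a ∈ (P : Subgroup G), g⁻¹ * a * g ∈ ι.range := fun a ha => s.of_cz z0 (by
    rw [ez]
    calc _ = g⁻¹ * (a * c) * g := by group
      _ = _ := by rw [← cen.1 c3 a ha]; group)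
  have key : ∀ k : G, (∀ a ∈ M, k * a * k⁻¹ ∈ ι.range) →
      ∃ d ∈ ι.range, ∀ a, a ∈ M ↔ d⁻¹ * k * a * (d⁻¹ * k)⁻¹ ∈ (M0 F).map ι := fun k hk => by
    obtain ⟨d, hd, e⟩ := s.conjM (A := conjS k M) (by rintro _ ⟨a, ha, rfl⟩; exact hk a ha)
      (by
        rintro _ ⟨a, ha, rfl⟩ _ ⟨b, hb, rfl⟩
        rw [← map_mul, ← map_mul]
        exact congrArg _ (congrArg Subtype.val (hMel.1.1.comm ⟨a, ha⟩ ⟨b, hb⟩)))
      ((P.2.to_le hMP).map _) (by rw [card_conjS, hMcard, hF', ← pow_mul, mul_comm])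
    refine ⟨d, hd, fun a => ?_⟩
    rw [← mem_map_iff_mem (f := (MulAut.conj k).toMonoidHom) (MulAut.conj k).injective, e]
    simp [mul_assoc]
  obtain ⟨d, hd, ed⟩ := key g⁻¹ fun a ha => by simpa using PC a (hMP ha)
  have hN : ι.range.Normal := St.main (m := m) ⟨s, hm, hm1, hF', fun n hn => by
    have k1 : g * d * n * (g * d)⁻¹ ∈ Nor (P : Subgroup G) := hB (mnor fun a ha =>
      (ed _).2 (mem_of_eq (cmem hn ((ed a).1 ha)) (by group)))
    obtain ⟨z', ez'⟩ := cz _ (cmem k1 c1) (cmem (mcen k1) c3)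
    have k2 := s.of_zz (g := d * n * d⁻¹) z0 (z' := z') (by rw [ez, ez']; group)
    exact mem_of_eq (mul_mem (mul_mem (inv_mem (le_normalizer hd)) k2) (le_normalizer hd))
      (by group)⟩
  refine ⟨fun y => ?_, hN⟩
  have MC : ∀ k : G, ∀ a ∈ M, k * a * k⁻¹ ∈ ι.range := fun k a ha =>
    mem_of_eq (hN.conj_mem _ (PC a (hMP ha)) (k * g)) (by group)
  obtain ⟨d1, h1, e1⟩ := key y (MC y)
  obtain ⟨d2, h2, e2⟩ := key 1 (MC 1)
  refine ⟨d1 * d2⁻¹, d2 * d1⁻¹ * y, fun w hw => (hw.2 _ (mul_mem h1 (inv_mem h2))).symm,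
    mnor fun a ha => (e2 _).2 (mem_of_eq ((e1 a).1 ha) (by group)), by group⟩

end Cfsg.Agent.S3302
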