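import Cfsg.Statements.S3308
import Cfsg.Agent.Hz.S5
import Cfsg.Agent.S3185
import Cfsg.Agent.S3305

set_option autoImplicit false
open Cfsg

namespace Cfsg.Agent.S3308

/-- Let G be a finite nonsolvable group in which any two distinct Sylow 2-subgroups intersect in a cyclic group, and let R be its solvable radical (the largest solvable normal subgroup). Then G has a normal subgroup G₁ of odd index containing R such that G₁/R is a non-abelian simple group isomorphic to PSL(2, 2^n) (n ≥ 2), a Suzuki group over the field with 2^(2m+1) elements (m ≥ 1), PSU(3, 2^n) (n ≥ 2), PSL(2, q) with q ≡ 3 or 5 mod 8 and q > 5, or simple of order 175560 (the order of the first Janko group). -/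
theorem result {G : Type*} [Group G] [Finite G] (hns : ¬ Group.IsSolvable G)
    (hC : ∀ S T : Sylow 2 G, S ≠ T → IsCyclic ↥((S : Subgroup G) ⊓ (T : Subgroup G)))
    (R : Subgroup G) [R.Normal] (hR : Group.IsSolvable ↥R) (hRmax : ∀ N : Subgroup G, N.Normal → Group.IsSolvable ↥N → N ≤ R) :
    ∃ (G₁ : Subgroup G) (_ : G₁.Normal) (_ : (R.subgroupOf G₁).Normal), Odd G₁.index ∧ R ≤ G₁ ∧
      IsSimpleGroup (↥G₁ ⧸ R.subgroupOf G₁) ∧ ¬ IsMulCommutative (↥G₁ ⧸ R.subgroupOf G₁) ∧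
      ((∃ (n : ℕ) (F : Type) (_ : Field F) (_ : Fintype F), 2 ≤ n ∧ Fintype.card F = 2 ^ n ∧
          Nonempty (↥G₁ ⧸ R.subgroupOf G₁ ≃* Matrix.ProjectiveSpecialLinearGroup (Fin 2) F)) ∨
      (∃ (m : ℕ) (F : Type) (_ : Field F) (_ : Fintype F), 1 ≤ m ∧ Fintype.card F = 2 ^ (2 * m + 1) ∧
          Nonempty (↥G₁ ⧸ R.subgroupOf G₁ ≃* ↥(Cfsg.Lie.Sz F (2 ^ (m + 1))))) ∨
      (∃ (n : ℕ) (F : Type) (_ : Field F) (_ : Fintype F), 2 ≤ n ∧ Fintype.card F = 4 ^ n ∧
          Nonempty (↥G₁ ⧸ R.subgroupOf G₁ ≃* Cfsg.PSU 3 F (2 ^ n))) ∨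
      (∃ (F : Type) (_ : Field F) (_ : Fintype F), (Fintype.card F % 8 = 3 ∨ Fintype.card F % 8 = 5) ∧ 5 < Fintype.card F ∧
          Nonempty (↥G₁ ⧸ R.subgroupOf G₁ ≃* Matrix.ProjectiveSpecialLinearGroup (Fin 2) F)) ∨
      Cfsg.IsJ1 (↥G₁ ⧸ R.subgroupOf G₁)) := by
    have sj := QuotientGroup.mk'_surjective R
    have kk := QuotientGroup.ker_mk' R
    have h1 := Hz.h1_of_cyclic (S3305.result hC R)
    have z : ∀ N : Subgroup (G ⧸ R), N.Normal → Group.IsSolvable N → N = ⊥ := fun N hN hs => by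
      have := hRmax (N.comap (QuotientGroup.mk' R)) inferInstance (H4.isSolvable_of_map
        (QuotientGroup.mk' R) (by rwa [Subgroup.map_comap_eq_self_of_surjective sj])
          (H4.isSolvable_of_le (inf_le_right.trans kk.le) hR))
      rw [← Subgroup.map_comap_eq_self_of_surjective sj N, Subgroup.map_eq_bot_iff, kk]
      exact this
    have : Nontrivial (G ⧸ R) := by
      by_contra e
      have := not_nontrivial_iff_subsingleton.mp e
      exact GW.nsolv_quot _ sj (kk.symm ▸ hR) hns inferInstance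
    obtain ⟨L, nL, hs, nc, ho⟩ := h1.soc
      (z _ inferInstance (FT.ftThm _ (Nat.coprime_two_right.mp (H4.coprime_card_pPrimeCore 2 _))))
      (z _ inferInstance (H5.isSolvable_of_isPGroup (H4.isPGroup_pCore 2 _)))
    have e : ↥(L.comap (QuotientGroup.mk' R)) ⧸ R.subgroupOf (L.comap (QuotientGroup.mk' R)) ≃* L := by
      refine (QuotientGroup.quotientMulEquivOfEq ?_).trans (QuotientGroup.quotientKerEquivOfSurjective
        _ ((QuotientGroup.mk' R).subgroupComap_surjective_of_surjective L sj))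
      ext x
      rw [MonoidHom.mem_ker, Subtype.ext_iff]
      exact (SetLike.ext_iff.1 kk (x : G)).symm
    have hs' := e.isSimpleGroup
    refine ⟨L.comap (QuotientGroup.mk' R), inferInstance, inferInstance, by
      rwa [Subgroup.index_comap_of_surjective _ sj], kk.ge.trans (Subgroup.ker_le_comap _ _), hs',
      fun c => nc ⟨⟨fun a b => e.symm.injective (by rw [map_mul, map_mul, c.is_comm.comm])⟩⟩, ?_⟩
    rcases S3185.result nc fun S T ne _ => Hz.h1_iff.mp (h1.sub L) S T ne with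
      ⟨n, F, _, _, k1, k2, ⟨φ⟩⟩ | ⟨n, F, _, _, k1, k2, ⟨φ⟩⟩ | ⟨n, F, _, _, k1, k2, ⟨φ⟩⟩ |
        ⟨F, _, _, k1, k2, ⟨φ⟩⟩ | k
    · exact Or.inl ⟨n, F, _, _, k1, k2, ⟨e.trans φ⟩⟩
    · exact Or.inr (Or.inl ⟨n, F, _, _, k1, k2, ⟨e.trans φ⟩⟩)
    · exact Or.inr (Or.inr (Or.inl ⟨n, F, _, _, k1, k2, ⟨e.trans φ⟩⟩))
    · exact Or.inr (Or.inr (Or.inr (Or.inl ⟨F, _, _, k1, k2, ⟨e.trans φ⟩⟩)))
    · exact Or.inr (Or.inr (Or.inr (Or.inr ⟨hs', (Nat.card_congr e.toEquiv).trans k.2⟩)))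

end Cfsg.Agent.S3308
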