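import Cfsg.Statements.S3306
import Cfsg.Agent.Hz.S6
import Cfsg.Agent.S3308

set_option autoImplicit false
open Cfsg

namespace Cfsg.Agent.S3306

/-- Let G be a finite nonsolvable group in which any two distinct Sylow 2-subgroups intersect in a cyclic group, and let N be a solvable normal subgroup of G. Then the image of N in G/O(G) is a cyclic 2-group contained in the centre of G/O(G) (O(G) the largest normal subgroup of odd order). In other words the solvable radical of G is V·O(G) with V a cyclic 2-group central modulo O(G). -/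
theorem result {G : Type*} [Group G] [Finite G] (hns : ¬ Group.IsSolvable G)
    (hC : ∀ S T : Sylow 2 G, S ≠ T → IsCyclic ↥((S : Subgroup G) ⊓ (T : Subgroup G)))
    (N : Subgroup G) [N.Normal] (hN : Group.IsSolvable ↥N) :
    IsCyclic ↥(N.map (QuotientGroup.mk' (Cfsg.oddCore G))) ∧ IsPGroup 2 ↥(N.map (QuotientGroup.mk' (Cfsg.oddCore G))) ∧
      N.map (QuotientGroup.mk' (Cfsg.oddCore G)) ≤ Subgroup.center (G ⧸ Cfsg.oddCore G) := by
    have hn := GW.nsolv_mk hns
    have h1 := S3305.result hC (oddCore G)
    have hO : oddCore (G ⧸ oddCore G) = ⊥ := H4.pPrimeCore_quotient_pPrimeCore 2 G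
    have hN' := H4.isSolvable_map hN (QuotientGroup.mk' (oddCore G))
    have nN : (N.map (QuotientGroup.mk' (oddCore G))).Normal := inferInstance
    revert hN' nN
    generalize N.map (QuotientGroup.mk' (oddCore G)) = M
    intro hN' nN
    obtain ⟨k1, k2, k3⟩ := Hz.cyc_rad hn h1 hO
    refine ⟨H9.isCyclic_of_le (k2 M nN hN') k1, (H4.isPGroup_pCore 2 _).to_le (k2 M nN hN'),
      (k2 M nN hN').trans ?_⟩
    obtain ⟨L, nL, nR, ho, le, hs, nc, -⟩ := S3308.result hn h1 (pCore 2 _)
      (H5.isSolvable_of_isPGroup (H4.isPGroup_pCore 2 _)) k2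
    exact k3 L nL ho le hs nc

end Cfsg.Agent.S3306
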