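import Cfsg.Statements.S3310
import Cfsg.Agent.Hz.S11

set_option autoImplicit false
open Cfsg

namespace Cfsg.Agent.S3310

/-- Let G be a finite nonsolvable group; write O(G) for its largest normal subgroup of odd order and O₂(G) for its largest normal 2-subgroup. Suppose that every intersection of two distinct Sylow 2-subgroups of G has 2-rank at most 1, that some two distinct Sylow 2-subgroups of G/O(G) have a non-cyclic intersection, and that no Sylow 2-subgroup of G is a quaternion group, ordinary or generalized (of order 2^k ≥ 8). Then either (a) O₂(G) is a quaternion group, ordinary or generalized (of order 2^k ≥ 8), and G has a normal subgroup G₁ of odd index containing O₂(G)O(G) with G₁/O₂(G)O(G) isomorphic to PSL(2,2ⁿ) (n ≥ 2), a Suzuki group over the field with 2^(2m+1) elements (m ≥ 1), or PSU(3,2ⁿ) (n ≥ 2); or (b) G has a normal subgroup G₁ containing O(G), of index odd or twice an odd number,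 with G₁/O(G) isomorphic to the central product of two copies of SL(2,5) with amalgamated centres. -/
theorem result {G : Type*} [Group G] [Finite G] (hns : ¬ Group.IsSolvable G)
    (hI : ∀ S T : Sylow 2 G, S ≠ T → Cfsg.PRankLE 2 1 ↥((S : Subgroup G) ⊓ (T : Subgroup G)))
    (hnC : ∃ S T : Sylow 2 (G ⧸ Cfsg.oddCore G), S ≠ T ∧
      ¬ IsCyclic ↥((S : Subgroup (G ⧸ Cfsg.oddCore G)) ⊓ (T : Subgroup (G ⧸ Cfsg.oddCore G))))
    (hnQ : ∀ S : Sylow 2 G, ∀ n : ℕ, IsEmpty (↥(S : Subgroup G) ≃* QuaternionGroup (2 ^ (n + 1)))) :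
    (∃ (G₁ : Subgroup G) (_ : G₁.Normal) (_ : ((Cfsg.pCore 2 G ⊔ Cfsg.oddCore G).subgroupOf G₁).Normal),
      Odd G₁.index ∧ Cfsg.pCore 2 G ⊔ Cfsg.oddCore G ≤ G₁ ∧
      (∃ n : ℕ, Nonempty (↥(Cfsg.pCore 2 G) ≃* QuaternionGroup (2 ^ (n + 1)))) ∧
      ((∃ (n : ℕ) (F : Type) (_ : Field F) (_ : Fintype F), 2 ≤ n ∧ Fintype.card F = 2 ^ n ∧
          Nonempty (↥G₁ ⧸ (Cfsg.pCore 2 G ⊔ Cfsg.oddCore G).subgroupOf G₁ ≃* Matrix.ProjectiveSpecialLinearGroup (Fin 2) F)) ∨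
       (∃ (m : ℕ) (F : Type) (_ : Field F) (_ : Fintype F), 1 ≤ m ∧ Fintype.card F = 2 ^ (2 * m + 1) ∧
          Nonempty (↥G₁ ⧸ (Cfsg.pCore 2 G ⊔ Cfsg.oddCore G).subgroupOf G₁ ≃* ↥(Cfsg.Lie.Sz F (2 ^ (m + 1))))) ∨
       (∃ (n : ℕ) (F : Type) (_ : Field F) (_ : Fintype F), 2 ≤ n ∧ Fintype.card F = 4 ^ n ∧
          Nonempty (↥G₁ ⧸ (Cfsg.pCore 2 G ⊔ Cfsg.oddCore G).subgroupOf G₁ ≃* Cfsg.PSU 3 F (2 ^ n))))) ∨
    (∃ (G₁ : Subgroup G) (_ : G₁.Normal) (_ : ((Cfsg.oddCore G).subgroupOf G₁).Normal),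
      (Odd G₁.index ∨ ∃ k : ℕ, Odd k ∧ G₁.index = 2 * k) ∧ Cfsg.oddCore G ≤ G₁ ∧
      ∃ (Z : Subgroup (Matrix.SpecialLinearGroup (Fin 2) (ZMod 5) × Matrix.SpecialLinearGroup (Fin 2) (ZMod 5))) (_ : Z.Normal),
        Z = Subgroup.zpowers ((-1 : Matrix.SpecialLinearGroup (Fin 2) (ZMod 5)), (-1 : Matrix.SpecialLinearGroup (Fin 2) (ZMod 5))) ∧
        Nonempty (↥G₁ ⧸ (Cfsg.oddCore G).subgroupOf G₁ ≃*
          (Matrix.SpecialLinearGroup (Fin 2) (ZMod 5) × Matrix.SpecialLinearGroup (Fin 2) (ZMod 5)) ⧸ Z)) := by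
    have h := Hz.h1_iff.mpr hI
    have sj := QuotientGroup.mk'_surjective (oddCore G)
    have kk := QuotientGroup.ker_mk' (oddCore G)
    have od : Odd (Nat.card (QuotientGroup.mk' (oddCore G)).ker) := GW.odd_ker_mk
    have sj' := QuotientGroup.mk'_surjective (pCore 2 (G ⧸ oddCore G))
    have kk' := QuotientGroup.ker_mk' (pCore 2 (G ⧸ oddCore G))
    obtain ⟨x, y, ne, nc⟩ := hnC
    have rk : BS.Rk2 (⊤ : Subgroup (G ⧸ oddCore G)) := by
      obtain ⟨x, rfl⟩ := Sylow.mapSurjective_surjective sj 2 x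
      refine ((Hz.rk2_map od x.isPGroup').mpr (by_contra fun r => ?_)).mono le_top
      obtain ⟨n, ⟨e⟩⟩ := Hz.exists_quat x.isPGroup' r fun c =>
        nc (H9.isCyclic_of_le inf_le_left (H9.isCyclic_map _ c))
      exact (hnQ x n).false e
    rcases Hz.con_main (h.quot sj od) (H4.pPrimeCore_quotient_pPrimeCore 2 G) (GW.nsolv_mk hns) sj' kk'
      rk ne nc with ⟨r, ⟨n, ⟨e⟩⟩, L, nL, ho, hB⟩ | ⟨E, nE, ho, Z, nZ, eZ, ⟨e⟩⟩
    · have e1 := h.map_pCore sj od r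
      have e2 : ((QuotientGroup.mk' (pCore 2 (G ⧸ oddCore G))).comp
          (QuotientGroup.mk' (oddCore G))).ker = pCore 2 G ⊔ oddCore G := by
        rw [← MonoidHom.comap_ker, kk', ← e1, Subgroup.comap_map_eq, kk]
      have s2 : Function.Surjective ((QuotientGroup.mk' (pCore 2 (G ⧸ oddCore G))).comp
          (QuotientGroup.mk' (oddCore G))) := sj'.comp sj
      obtain ⟨φ⟩ := Hz.exists_quot_equiv s2 e2 L
      obtain ⟨ψ⟩ := H9.nonempty_equiv_map (QuotientGroup.mk' (oddCore G)) (T := pCore 2 G)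
        (by rw [kk]; exact H4.pCore_inf_pPrimeCore 2)
      refine Or.inl ⟨_, inferInstance, inferInstance, by rwa [Subgroup.index_comap_of_surjective _ s2],
        e2.ge.trans (Subgroup.ker_le_comap _ _),
        ⟨n, ⟨ψ.trans ((MulEquiv.subgroupCongr e1).trans e)⟩⟩, ?_⟩
      rcases BS.bender_iff (BS.isBenderGroup_congr φ hB) with ⟨F, _, _, n, h1, h2, h3⟩ |
        ⟨F, _, _, n, h1, h2, h3⟩ | ⟨F, _, _, n, h1, h2, h3⟩
      · exact Or.inl ⟨n, F, _, _, h1, h2, h3⟩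
      · exact Or.inr (Or.inl ⟨n, F, _, _, h1, h2, h3⟩)
      · exact Or.inr (Or.inr ⟨n, F, _, _, h1, by rw [h2, ← pow_mul, mul_comm, pow_mul]; norm_num, h3⟩)
    · obtain ⟨φ⟩ := Hz.exists_quot_equiv sj kk E
      exact Or.inr ⟨_, inferInstance, inferInstance, by rwa [Subgroup.index_comap_of_surjective _ sj],
        kk.ge.trans (Subgroup.ker_le_comap _ _), Z, nZ, eZ, ⟨φ.trans e⟩⟩

end Cfsg.Agent.S3310
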